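import Groth.Agent.L09.EtAlt.Vanish

/-!
# Vanishing from an affine chart with bounded fibres
-/

universe u

open CategoryTheory CategoryTheory.Limits AlgebraicGeometry Opposite AlgSp

set_option autoImplicit false
set_option linter.style.haveILetI false
set_option backward.isDefEq.respectTransparency false
set_option backward.isDefEq.respectTransparency.types false

noncomputable section

namespace Groth.L09.EtAlt

variable {S : Scheme.{u}} {X : Sp S}

theorem exists_nhd_map (U : EtOver X) (hU : RepWith @Surjective U.obj.hom) (E : EtOver X) (t : E.obj.left.left) :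
    ∃ (W : EtOver X) (g : W ⟶ E), t ∈ Set.range g.hom.left.left ∧ Nonempty (W ⟶ U) := by
  haveI : Surjective (U.property.1.snd E.obj.hom).left := hU.2 E.obj.hom _ _ (U.property.1.isPullback E.obj.hom)
  exact ⟨EtOver.prodObj E U, EtOver.prodFst E U, (U.property.1.snd E.obj.hom).left.surjective t,
    ⟨EtOver.prodSnd E U⟩⟩

/-- Vanishing above the degree of an affine chart. -/
theorem subsingleton_hModEt_of_chart [S.IsSeparated] (hX : IsSeparatedSp X) (U : EtOver X)
    [IsAffine U.obj.left.left] (hU : RepWith @Surjective U.obj.hom) (d : ℕ)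
    (hd : ∀ x : FieldPt X, x.IsGeometric → ENat.card ((FieldPt.liftsTo x).obj U) ≤ d)
    (M : ModEt X) [M.IsQuasicoherent] (q : ℕ) (hq : d ≤ q) : Subsingleton (HModEt X M q) :=
  subsingleton_hModEt U M hX (exists_nhd_map U hU) (Groth.L09.EtCoh.cok_of_isQuasicoherent M)
    (fun _ hn => bad_eq_univ U hd hn) q hq

end Groth.L09.EtAlt
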