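import Mathlib.RingTheory.Invariant.Basic
import Mathlib.RingTheory.Ideal.GoingUp
import Mathlib.LinearAlgebra.LinearIndependent.Lemmas

/-!
# Traces for actions of finite groups which are free away from an idempotent
-/

set_option autoImplicit false
set_option linter.style.haveILetI false

universe v w

namespace Groth.L09.EtAlt

variable {A : Type v} [CommRing A] {G : Type w} [Group G] [Fintype G] [MulSemiringAction G A]

theorem smul_sum_smul (h : G) (a : A) : h • ∑ g : G, g • a = ∑ g : G, g • a := by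
  rw [Finset.smul_sum]
  exact Fintype.sum_equiv (Equiv.mulLeft h) _ _ fun g => (mul_smul h g a).symm

/-- An invariant idempotent outside of which the action is free is a trace. -/
theorem exists_trace_eq {e : A} (he : IsIdempotentElem e) (hinv : ∀ g : G, g • e = e)
    (hfree : ∀ g : G, g ≠ 1 → ∀ p : Ideal A, p.IsPrime → e ∉ p → ∃ x, g • x - x ∉ p) :
    ∃ a : A, ∑ g : G, g • a = e := by
  classical
  let R : Subring A := FixedPoints.subring A G
  haveI : Algebra.IsInvariant R A G := ⟨fun x hx => ⟨⟨x, hx⟩, rfl⟩⟩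
  haveI : SMulCommClass G R A := ⟨fun g r x => by
    show g • ((r : A) * x) = (r : A) * (g • x)
    rw [smul_mul', r.2 g]⟩
  haveI : Algebra.IsIntegral R A := Algebra.IsInvariant.isIntegral R A G
  let J : Ideal R :=
    { carrier := {r | ∃ a, ∑ g : G, g • a = e * (r : A)}
      add_mem' := fun {r s} ⟨a, ha⟩ ⟨b, hb⟩ => ⟨a + b, by
        simp only [smul_add, Finset.sum_add_distrib, ha, hb, Subring.coe_add, mul_add]⟩
      zero_mem' := ⟨0, by simp⟩
      smul_mem' := fun c r ⟨a, ha⟩ => ⟨(c : A) * a, by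
        simp only [smul_mul', c.2 _, ← Finset.mul_sum, ha, smul_eq_mul, Subring.coe_mul]
        ring⟩ }
  suffices hJ : J = ⊤ by
    obtain ⟨a, ha⟩ : (1 : R) ∈ J := by rw [hJ]; exact Submodule.mem_top
    exact ⟨a, by simpa using ha⟩
  by_contra hJ
  obtain ⟨m, hm, hJm⟩ := J.exists_le_maximal hJ
  have hker : RingHom.ker (algebraMap R A) ≤ m := fun r hr => by
    rw [show r = 0 from Subtype.ext hr]
    exact m.zero_mem
  obtain ⟨Q, hQ, hQm⟩ := Ideal.exists_ideal_over_maximal_of_isIntegral (S := A) m hker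
  have hQmem : ∀ r ∈ J, (r : A) ∈ Q := fun r hr => by
    have := hJm hr
    rw [← hQm] at this
    exact this
  have hefix : ∀ g : G, g • (1 - e) = 1 - e := fun g => by rw [smul_sub, smul_one, hinv]
  have h1e : 1 - e ∈ Q := hQmem ⟨1 - e, hefix⟩ ⟨0, by simp [mul_sub, he.eq]⟩
  have heQ : e ∉ Q := fun h => hQ.ne_top ((Ideal.eq_top_iff_one Q).2 (by simpa using Q.add_mem h1e h))
  haveI := hQ.isPrime
  let χ : G → (A →* A ⧸ Q) := fun g =>
    { toFun := fun x => Ideal.Quotient.mk Q (g • x)
      map_one' := by rw [smul_one, map_one]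
      map_mul' := fun x y => by rw [smul_mul', map_mul] }
  have hχ : Function.Injective χ := fun g h hgh => by
    by_contra hne
    obtain ⟨x, hx⟩ := hfree (g * h⁻¹) (fun k => hne (mul_inv_eq_one.1 k)) Q inferInstance heQ
    refine hx (Ideal.Quotient.eq.1 ?_)
    have := DFunLike.congr_fun hgh (h⁻¹ • x)
    change Ideal.Quotient.mk Q (g • h⁻¹ • x) = Ideal.Quotient.mk Q (h • h⁻¹ • x) at this
    rwa [← mul_smul, smul_inv_smul] at this
  have hind := (linearIndependent_monoidHom A (A ⧸ Q)).comp χ hχ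
  have hzero : ∑ g : G, (1 : A ⧸ Q) • (χ g : A → A ⧸ Q) = 0 := by
    funext x
    simp only [Finset.sum_apply, Pi.smul_apply, one_smul, Pi.zero_apply]
    show ∑ g : G, Ideal.Quotient.mk Q (g • x) = 0
    rw [← map_sum, Ideal.Quotient.eq_zero_iff_mem]
    have hmem : (⟨∑ g : G, g • x, fun h => smul_sum_smul h x⟩ : R) ∈ J :=
      ⟨e * x, by simp only [smul_mul', hinv, ← Finset.mul_sum]⟩
    exact hQmem _ hmem
  exact one_ne_zero (Fintype.linearIndependent_iff.1 hind (fun _ => 1) hzero 1)

end Groth.L09.EtAlt
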