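import Groth.Agent.L09.EtAlt.Tuples
import Groth.Agent.L09.EtAlt.Trace
import Groth.Prelude.Def_AlgSpOX3
import Groth.Prelude.Def_AlgSpDec
import Mathlib.AlgebraicGeometry.Morphisms.FlatMono
import Mathlib.AlgebraicGeometry.Morphisms.Separated
import Mathlib.FieldTheory.IsAlgClosed.AlgebraicClosure
import Mathlib.RingTheory.Localization.FractionRing

/-!
# The locus of tuples of pairwise distinct points in a power
-/

universe u

open CategoryTheory CategoryTheory.Limits AlgebraicGeometry Opposite AlgSp TopologicalSpace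

set_option autoImplicit false
set_option linter.style.haveILetI false
set_option backward.isDefEq.respectTransparency false
set_option backward.isDefEq.respectTransparency.types false

noncomputable section

namespace Groth.L09.EtAlt

open Groth.L09.ModEt (Γ₀ pb pb_comp pb_id openObj openι)

variable {S : Scheme.{u}} {X : Sp S} (U : EtOver X)

theorem isAffine_T [S.IsSeparated] (hX : IsSeparatedSp X) [IsAffine U.obj.left.left] :
    ∀ n, IsAffine (T U n).obj.left.left
  | 0 => ‹IsAffine U.obj.left.left›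
  | n + 1 => by
    haveI := isAffine_T hX n
    exact isAffine_prodObj hX U (T U n)

/-- The diagonal. -/
def diagU : U ⟶ EtOver.prodObj U U := pl (𝟙 U) (𝟙 U)

/-- Pairs of coordinates. -/
def pair (n : ℕ) (a b : Fin (n + 1)) : T U n ⟶ EtOver.prodObj U U := pl (tπ U n a) (tπ U n b)

theorem comp_pair {W : EtOver X} {n : ℕ} (a b : Fin (n + 1)) (x : W ⟶ T U n) :
    x ≫ pair U n a b = pl (x ≫ tπ U n a) (x ≫ tπ U n b) := comp_pl _ _ _

theorem eq_of_mem_range_diag {W : EtOver X} {a b : W ⟶ U} (hW : ∀ w, (pl a b).hom.left.left w ∈ Set.range (diagU U).hom.left.left) :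
    Groth.L09.ModEt.IsCover (fun _ : PUnit.{u + 1} => EtOver.pullbackFst (pl a b) (diagU U)) ∧
      EtOver.pullbackFst (pl a b) (diagU U) ≫ a = EtOver.pullbackFst (pl a b) (diagU U) ≫ b := by
  refine ⟨fun w => ?_, ?_⟩
  · obtain ⟨v, hv⟩ := hW w
    obtain ⟨p, hp, -⟩ := Scheme.exists_preimage_of_isPullback
      ((EtOver.isPullback (pl a b) (diagU U)).map (EtOver.toScheme X)) w v hv.symm
    exact ⟨PUnit.unit, p, hp⟩
  · have h := EtOver.pullback_condition (pl a b) (diagU U)
    have h₁ := congrArg (fun k => k ≫ EtOver.prodFst U U) h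
    have h₂ := congrArg (fun k => k ≫ EtOver.prodSnd U U) h
    simp only [diagU, Category.assoc, pl_fst, pl_snd] at h₁ h₂
    exact h₁.trans h₂.symm

/-- Tuples with two equal entries. -/
def bad (n : ℕ) : Set (T U n).obj.left.left :=
  ⋃ p : {p : Fin (n + 1) × Fin (n + 1) // p.1 ≠ p.2},
    (pair U n p.1.1 p.1.2).hom.left.left ⁻¹' Set.range (diagU U).hom.left.left

theorem isClopen_range_diag [S.IsSeparated] (hX : IsSeparatedSp X) [IsAffine U.obj.left.left] :
    IsClopen (Set.range (diagU U).hom.left.left) := by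
  haveI := isAffine_prodObj hX U U
  have h1 : (diagU U).hom.left.left ≫ (EtOver.prodFst U U).hom.left.left = 𝟙 _ :=
    congrArg (fun k => k.hom.left.left) (pl_fst (𝟙 U) (𝟙 U))
  haveI : Etale (diagU U).hom.left.left := EtOver.etale_left _
  haveI : IsSplitMono (diagU U).hom.left.left := IsSplitMono.mk' ⟨_, h1⟩
  haveI : IsOpenImmersion (diagU U).hom.left.left := IsOpenImmersion.of_flat_of_mono _
  haveI : IsClosedImmersion ((diagU U).hom.left.left ≫ (EtOver.prodFst U U).hom.left.left) := by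
    rw [h1]; infer_instance
  haveI : IsClosedImmersion (diagU U).hom.left.left :=
    IsClosedImmersion.of_comp _ (EtOver.prodFst U U).hom.left.left
  exact ⟨(IsClosedImmersion.isClosedEmbedding _).isClosed_range, (diagU U).hom.left.left.isOpenEmbedding.isOpen_range⟩

theorem isClopen_bad [S.IsSeparated] (hX : IsSeparatedSp X) [IsAffine U.obj.left.left] (n : ℕ) :
    IsClopen (bad U n) :=
  isClopen_iUnion_of_finite fun _ => (isClopen_range_diag U hX).preimage (Scheme.Hom.continuous _)

theorem basicOpen_eq_bot_of_mul {T : Scheme.{u}} {a b : Γ(T, ⊤)} (h : a * b = 0) :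
    T.basicOpen a ⊓ T.basicOpen b = ⊥ := by
  rw [← Scheme.basicOpen_mul, h, Scheme.basicOpen_zero]

theorem eq_of_basicOpen_eq {T : Scheme.{u}} [CompactSpace T] {e e' : Γ(T, ⊤)} (he : IsIdempotentElem e)
    (he' : IsIdempotentElem e') (h : T.basicOpen e = T.basicOpen e') : e = e' := by
  have key : ∀ {a b : Γ(T, ⊤)}, IsIdempotentElem a → IsIdempotentElem b → T.basicOpen a ≤ T.basicOpen b →
      a * (1 - b) = 0 := fun {a b} ha hb hab => by
    refine (ha.mul hb.one_sub).eq_zero_of_isNilpotent ((Scheme.isNilpotent_iff_basicOpen_eq_bot (X := T) _).2 ?_)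
    rw [Scheme.basicOpen_mul, eq_bot_iff]
    refine (inf_le_inf_right _ hab).trans (le_of_eq (basicOpen_eq_bot_of_mul ?_))
    rw [mul_sub, mul_one, hb.eq, sub_self]
  have h1 := key he he' h.le
  have h2 := key he' he h.ge
  rw [mul_sub, mul_one, sub_eq_zero] at h1 h2
  rw [h1, mul_comm, ← h2]

theorem eq_one_of_basicOpen_eq_top {T : Scheme.{u}} {e : Γ(T, ⊤)} (he : IsIdempotentElem e)
    (h : T.basicOpen e = ⊤) : e = 1 := by
  have hu : IsUnit e := by
    have := (T.toRingedSpace.isUnit_res_basicOpen e).map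
      (T.presheaf.map (homOfLE h.ge).op).hom
    change IsUnit ((T.presheaf.map _ ≫ T.presheaf.map _) e) at this
    rw [← Functor.map_comp, Subsingleton.elim (_ ≫ (homOfLE h.ge).op) (𝟙 _), CategoryTheory.Functor.map_id] at this
    exact this
  exact hu.mul_left_cancel (he.trans (mul_one e).symm)

theorem exists_idem [S.IsSeparated] (hX : IsSeparatedSp X) [IsAffine U.obj.left.left] (n : ℕ) :
    ∃ e : Γ₀ (T U n), IsIdempotentElem e ∧ ((T U n).obj.left.left.basicOpen e : Set (T U n).obj.left.left) = (bad U n)ᶜ := by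
  haveI := isAffine_T U hX n
  let φ := (T U n).obj.left.left.isoSpec
  obtain ⟨e, he, h⟩ := PrimeSpectrum.exists_idempotent_basicOpen_eq_of_isClopen
    (s := φ.inv ⁻¹' (bad U n)ᶜ) ((isClopen_bad U hX n).compl.preimage (Scheme.Hom.continuous _))
  refine ⟨e, he, ?_⟩
  have h2 := congrArg (fun V : (T U n).obj.left.left.Opens => (V : Set (T U n).obj.left.left))
    ((T U n).obj.left.left.toSpecΓ_preimage_basicOpen e)
  refine h2.symm.trans ?_
  show φ.hom ⁻¹' (PrimeSpectrum.basicOpen e : Set (PrimeSpectrum _)) = _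
  rw [← h, ← Set.preimage_comp]
  refine Set.ext fun x => ?_
  show φ.inv (φ.hom x) ∈ (bad U n)ᶜ ↔ _
  rw [← Scheme.Hom.comp_apply, Iso.hom_inv_id]
  rfl

/-- Permutations of tuples. -/
def tperm {n : ℕ} (σ : Fin (n + 1) → Fin (n + 1)) : T U n ⟶ T U n := tlift fun i => tπ U n (σ i)

theorem tperm_π {n : ℕ} (σ : Fin (n + 1) → Fin (n + 1)) (i : Fin (n + 1)) :
    tperm U σ ≫ tπ U n i = tπ U n (σ i) := tlift_π _ _

theorem tperm_comp {n : ℕ} (ρ σ : Fin (n + 1) → Fin (n + 1)) : tperm U ρ ≫ tperm U σ = tperm U (ρ ∘ σ) :=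
  t_hom_ext fun i => by rw [Category.assoc, tperm_π, tperm_π, tperm_π]; rfl

theorem tperm_id (n : ℕ) : tperm U (id : Fin (n + 1) → Fin (n + 1)) = 𝟙 _ :=
  t_hom_ext fun i => by rw [tperm_π, Category.id_comp]; rfl

theorem qmap_perm_snd (E : EtOver X) {n : ℕ} (σ : Fin (n + 1) → Fin (n + 1)) :
    qmap U E σ ≫ EtOver.prodSnd E (T U n) = EtOver.prodSnd E (T U n) ≫ tperm U σ :=
  t_hom_ext fun i => by rw [Category.assoc, Category.assoc, qmap_π, tperm_π]

/-- The permutation action on functions. -/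
@[instance_reducible] def permAction (n : ℕ) : MulSemiringAction (Equiv.Perm (Fin (n + 1))) (Γ₀ (T U n)) where
  smul σ x := pb (tperm U σ) x
  one_smul x := by
    show pb (tperm U ((1 : Equiv.Perm (Fin (n + 1))) : Fin (n + 1) → Fin (n + 1))) x = x
    rw [Equiv.Perm.coe_one, tperm_id, pb_id]
  mul_smul σ τ x := by
    show pb (tperm U ((σ * τ : Equiv.Perm (Fin (n + 1))) : Fin (n + 1) → Fin (n + 1))) x =
      pb (tperm U σ) (pb (tperm U τ) x)
    rw [← pb_comp, tperm_comp, Equiv.Perm.coe_mul]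
  smul_zero σ := map_zero _
  smul_add σ := map_add _
  smul_one σ := map_one _
  smul_mul σ := map_mul _

theorem hom_ext_pt {Z : Over S} {a b : Z ⟶ (EtOver.prodObj U U).obj.left}
    (h₁ : a ≫ (EtOver.prodFst U U).hom.left = b ≫ (EtOver.prodFst U U).hom.left)
    (h₂ : a ≫ (EtOver.prodSnd U U).hom.left = b ≫ (EtOver.prodSnd U U).hom.left) : a = b :=
  Functor.relativelyRepresentable.hom_ext' _ h₂ h₁

theorem mem_bad_of_lift {n : ℕ} {Z : Over S} (ξ : Z ⟶ (T U n).obj.left) (z : Z.left) {a b : Fin (n + 1)}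
    (hab : a ≠ b) (h : ξ ≫ (tπ U n a).hom.left = ξ ≫ (tπ U n b).hom.left) : ξ.left z ∈ bad U n := by
  refine Set.mem_iUnion.2 ⟨⟨(a, b), hab⟩, (ξ ≫ (tπ U n a).hom.left).left z, ?_⟩
  have hk : (ξ ≫ (tπ U n a).hom.left) ≫ (diagU U).hom.left = ξ ≫ (pair U n a b).hom.left := by
    refine hom_ext_pt U ?_ ?_
    · have h1 := congrArg (fun k => k.hom.left) (pl_fst (𝟙 U) (𝟙 U))
      have h2 := congrArg (fun k => k.hom.left) (pl_fst (tπ U n a) (tπ U n b))
      exact ((Category.assoc _ _ _).trans ((congrArg _ h1).trans (Category.comp_id _))).trans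
        ((Category.assoc _ _ _).trans (congrArg _ h2)).symm
    · have h1 := congrArg (fun k => k.hom.left) (pl_snd (𝟙 U) (𝟙 U))
      have h2 := congrArg (fun k => k.hom.left) (pl_snd (tπ U n a) (tπ U n b))
      exact ((Category.assoc _ _ _).trans ((congrArg _ h1).trans (Category.comp_id _))).trans
        (((Category.assoc _ _ _).trans (congrArg _ h2)).trans h.symm).symm
  exact congrArg (fun k => k.left z) hk

/-- An element with trace the indicator of tuples of pairwise distinct points. -/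
theorem exists_trace [S.IsSeparated] (hX : IsSeparatedSp X) [IsAffine U.obj.left.left] (n : ℕ) :
    ∃ a : Γ₀ (T U n), ∀ (W : EtOver X) (x : W ⟶ T U n),
      (∀ w, x.hom.left.left w ∉ bad U n) → ∑ σ : Equiv.Perm (Fin (n + 1)), pb (x ≫ tperm U σ) a = 1 := by
  haveI := isAffine_T U hX n
  letI := permAction U n
  obtain ⟨e, he, hW⟩ := exists_idem U hX n
  have hbad : ∀ (σ : Equiv.Perm (Fin (n + 1))) x, (tperm U σ).hom.left.left x ∈ bad U n ↔ x ∈ bad U n := by
    intro σ x
    simp only [bad, Set.mem_iUnion, Set.mem_preimage]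
    have hp : ∀ a b, (pair U n a b).hom.left.left ((tperm U σ).hom.left.left x) =
        (pair U n (σ a) (σ b)).hom.left.left x := fun a b =>
      congrArg (fun k => k.hom.left.left x)
        (show tperm U σ ≫ pair U n a b = pair U n (σ a) (σ b) by rw [comp_pair, tperm_π, tperm_π]; rfl)
    constructor
    · rintro ⟨⟨⟨a, b⟩, hab⟩, h⟩
      exact ⟨⟨(σ a, σ b), fun h' => hab (σ.injective h')⟩, by rw [← hp]; exact h⟩
    · rintro ⟨⟨⟨a, b⟩, hab⟩, h⟩
      refine ⟨⟨(σ.symm a, σ.symm b), fun h' => hab (σ.symm.injective h')⟩, ?_⟩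
      rw [hp, σ.apply_symm_apply, σ.apply_symm_apply]
      exact h
  have hinv : ∀ σ : Equiv.Perm (Fin (n + 1)), σ • e = e := fun σ => by
    refine eq_of_basicOpen_eq (he.map (pb (tperm U σ))) he (SetLike.coe_injective ?_)
    rw [show (T U n).obj.left.left.basicOpen (σ • e) = (tperm U σ).hom.left.left ⁻¹ᵁ _ from
      (Scheme.preimage_basicOpen_top _ e).symm]
    show (tperm U σ).hom.left.left ⁻¹' ((T U n).obj.left.left.basicOpen e : Set _) = _
    rw [hW]
    exact Set.ext fun x => not_congr (hbad σ x)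
  obtain ⟨a, ha⟩ := exists_trace_eq he hinv fun g hg p hp hep => by
    by_contra hcon
    push Not at hcon
    let κ := FractionRing (Γ₀ (T U n) ⧸ p)
    let φ : Γ₀ (T U n) ⟶ CommRingCat.of κ :=
      CommRingCat.ofHom ((algebraMap (Γ₀ (T U n) ⧸ p) κ).comp (Ideal.Quotient.mk p))
    let ξ₀ : Spec (CommRingCat.of κ) ⟶ (T U n).obj.left.left := Spec.map φ ≫ (T U n).obj.left.left.isoSpec.inv
    let Z : Over S := Over.mk (ξ₀ ≫ (T U n).obj.left.hom)
    let ξ : Z ⟶ (T U n).obj.left := Over.homMk ξ₀ rfl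
    have hfix : ξ ≫ (tperm U g).hom.left = ξ := by
      refine Over.OverMorphism.ext ?_
      show (Spec.map φ ≫ (T U n).obj.left.left.isoSpec.inv) ≫ (tperm U g).hom.left.left = ξ₀
      rw [Category.assoc, ← Scheme.isoSpec_inv_naturality, ← Category.assoc, ← Spec.map_comp]
      refine congrArg (fun k => Spec.map k ≫ _) (CommRingCat.hom_ext (RingHom.ext fun x => ?_))
      exact congrArg (algebraMap _ κ) (Ideal.Quotient.eq.2 (hcon x))
    obtain ⟨i, hi⟩ : ∃ i, g i ≠ i := by
      by_contra hall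
      push Not at hall
      exact hg (Equiv.ext hall)
    let z : Z.left := (default : Spec (CommRingCat.of κ))
    have hz : ξ.left z ∈ bad U n := mem_bad_of_lift U ξ z hi (by
      conv_rhs => rw [← hfix]
      rw [Category.assoc]
      exact congrArg (fun k => ξ ≫ k.hom.left) (tperm_π U g i).symm)
    refine (Set.ext_iff.1 hW (ξ.left z)).1 ?_ hz
    show ξ.left z ∈ (T U n).obj.left.left.basicOpen e
    have hu : z ∈ (Spec (CommRingCat.of κ)).basicOpen (ξ₀.appTop e) := by
      refine (Scheme.basicOpen_of_isUnit _ ?_).ge trivial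
      have hne : φ e ≠ 0 := fun h0 => hep (Ideal.Quotient.eq_zero_iff_mem.1
        ((map_eq_zero_iff _ (IsFractionRing.injective (Γ₀ (T U n) ⧸ p) κ)).1 h0))
      have := ((Ne.isUnit hne).map (Scheme.ΓSpecIso (CommRingCat.of κ)).inv.hom)
      convert this using 1
      simp [ξ₀, Scheme.isoSpec]
      exact (ConcreteCategory.congr_hom (Scheme.ΓSpecIso_inv_naturality φ) e).symm
    rwa [← Scheme.preimage_basicOpen_top] at hu
  refine ⟨a, fun W x hx => ?_⟩
  have h1 : pb x e = 1 := by
    refine eq_one_of_basicOpen_eq_top (he.map (pb x)) ?_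
    rw [show W.obj.left.left.basicOpen (pb x e) = x.hom.left.left ⁻¹ᵁ _ from (Scheme.preimage_basicOpen_top _ e).symm]
    refine SetLike.coe_injective ?_
    show x.hom.left.left ⁻¹' ((T U n).obj.left.left.basicOpen e : Set _) = Set.univ
    rw [hW]
    exact Set.eq_univ_of_forall hx
  rw [← h1, ← ha, map_sum]
  rfl

theorem comp_fromSpec_apply {Y Z : Scheme.{u}} (y : Y) (f : Z ⟶ Spec (Y.residueField y)) (z : Z) :
    (f ≫ Y.fromSpecResidueField y) z = y :=
  (Scheme.Hom.comp_apply _ _ _).trans (Scheme.fromSpecResidueField_apply _ _)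

/-- With few geometric lifts there are no tuples of pairwise distinct points. -/
theorem bad_eq_univ {d : ℕ} (hd : ∀ x : FieldPt X, x.IsGeometric →
    ENat.card ((FieldPt.liftsTo x).obj U) ≤ d) {n : ℕ} (hn : d ≤ n) : bad U n = Set.univ := by
  refine Set.eq_univ_of_forall fun y => ?_
  let K : Type u := ↥((T U n).obj.left.left.residueField y)
  let Ω : Type u := AlgebraicClosure K
  let ξ₀ : Spec (CommRingCat.of Ω) ⟶ (T U n).obj.left.left :=
    Spec.map (CommRingCat.ofHom (algebraMap K Ω)) ≫ (T U n).obj.left.left.fromSpecResidueField y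
  let p : FieldPt X :=
    { K := Ω
      str := ξ₀ ≫ (T U n).obj.left.hom
      val := (J S).uliftYonedaEquiv ((yon S).map (Over.homMk ξ₀ rfl :
        Over.mk (ξ₀ ≫ (T U n).obj.left.hom) ⟶ (T U n).obj.left) ≫ (T U n).obj.hom) }
  let ξ : p.pt ⟶ (T U n).obj.left := Over.homMk ξ₀ rfl
  have hp : (yon S).map ξ ≫ (T U n).obj.hom = p.toHom := ((J S).uliftYonedaEquiv.symm_apply_apply _).symm
  let l : Fin (n + 1) → (FieldPt.liftsTo p).obj U := fun a =>
    ⟨ξ ≫ (tπ U n a).hom.left, by rw [Functor.map_comp, Category.assoc, EtOver.w (tπ U n a)]; exact hp⟩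
  have hninj : ¬ Function.Injective l := fun hinj => by
    have h1 := ENat.card_le_card_of_injective hinj
    have h2 := h1.trans (hd p (inferInstanceAs (IsAlgClosed (AlgebraicClosure K))))
    simp at h2
    norm_cast at h2
    omega
  obtain ⟨a, b, hab, hne⟩ := Function.not_injective_iff.1 hninj
  have := mem_bad_of_lift U ξ (IsLocalRing.closedPoint Ω) hne (congrArg Subtype.val hab)
  have hy : ξ.left (IsLocalRing.closedPoint Ω) = y := by
    show ξ₀ _ = y
    exact comp_fromSpec_apply y (Spec.map (CommRingCat.ofHom (algebraMap K Ω))) _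
  rwa [hy] at this

end Groth.L09.EtAlt
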