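import Groth.Agent.L09.ModEt.Basic
import Groth.Agent.L23.QcCalc

/-!
# Products in the small etale site
-/

universe u

open CategoryTheory CategoryTheory.Limits AlgebraicGeometry Opposite AlgSp

set_option autoImplicit false
set_option linter.style.haveILetI false
set_option backward.isDefEq.respectTransparency false
set_option backward.isDefEq.respectTransparency.types false

noncomputable section

namespace Groth.L09.EtAlt

variable {S : Scheme.{u}} {X : Sp S}

/-- Maps into a product. -/
def pl {W A B : EtOver X} (a : W ⟶ A) (b : W ⟶ B) : W ⟶ EtOver.prodObj A B :=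
  (BinaryFan.IsLimit.lift' (EtOver.prodIsLimit A B) a b).1

@[simp, reassoc]
theorem pl_fst {W A B : EtOver X} (a : W ⟶ A) (b : W ⟶ B) : pl a b ≫ EtOver.prodFst A B = a :=
  (BinaryFan.IsLimit.lift' (EtOver.prodIsLimit A B) a b).2.1

@[simp, reassoc]
theorem pl_snd {W A B : EtOver X} (a : W ⟶ A) (b : W ⟶ B) : pl a b ≫ EtOver.prodSnd A B = b :=
  (BinaryFan.IsLimit.lift' (EtOver.prodIsLimit A B) a b).2.2

theorem p_hom_ext {W A B : EtOver X} {a b : W ⟶ EtOver.prodObj A B}
    (h₁ : a ≫ EtOver.prodFst A B = b ≫ EtOver.prodFst A B)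
    (h₂ : a ≫ EtOver.prodSnd A B = b ≫ EtOver.prodSnd A B) : a = b :=
  BinaryFan.IsLimit.hom_ext (EtOver.prodIsLimit A B) h₁ h₂

theorem comp_pl {V W A B : EtOver X} (c : V ⟶ W) (a : W ⟶ A) (b : W ⟶ B) :
    c ≫ pl a b = pl (c ≫ a) (c ≫ b) := p_hom_ext (by simp) (by simp)

/-- Products with a fixed object. -/
def prodT (T : EtOver X) : EtOver X ⥤ EtOver X where
  obj E := EtOver.prodObj E T
  map g := pl (EtOver.prodFst _ T ≫ g) (EtOver.prodSnd _ T)
  map_id E := p_hom_ext (by simp) (by simp)
  map_comp g h := p_hom_ext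
    ((pl_fst _ _).trans ((Category.assoc _ _ _).symm.trans (((congrArg (fun k => k ≫ h) (pl_fst _ _).symm).trans
      (Category.assoc _ _ _)).trans ((congrArg _ (pl_fst _ _).symm).trans (Category.assoc _ _ _).symm))))
    (by simp)

@[simp, reassoc]
theorem prodT_map_fst (T : EtOver X) {E E' : EtOver X} (g : E' ⟶ E) :
    (prodT T).map g ≫ EtOver.prodFst E T = EtOver.prodFst E' T ≫ g := pl_fst _ _

@[simp, reassoc]
theorem prodT_map_snd (T : EtOver X) {E E' : EtOver X} (g : E' ⟶ E) :
    (prodT T).map g ≫ EtOver.prodSnd E T = EtOver.prodSnd E' T := pl_snd _ _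

theorem pl_map {W E E' T : EtOver X} (a : W ⟶ E') (b : W ⟶ T) (g : E' ⟶ E) :
    pl a b ≫ (prodT T).map g = pl (a ≫ g) b :=
  (comp_pl (pl a b) _ _).trans (congrArg₂ pl
    ((Category.assoc _ _ _).symm.trans (congrArg (fun k => k ≫ g) (pl_fst a b))) (pl_snd a b))

theorem pl_eta {W A B : EtOver X} (k : W ⟶ EtOver.prodObj A B) :
    pl (k ≫ EtOver.prodFst A B) (k ≫ EtOver.prodSnd A B) = k := p_hom_ext (by simp) (by simp)

theorem pl_diag_fst (E T : EtOver X) :
    pl (𝟙 (EtOver.prodObj E T)) (EtOver.prodSnd E T) ≫ (prodT T).map (EtOver.prodFst E T) = 𝟙 _ :=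
  (pl_map _ _ _).trans ((congrArg (fun k => pl k _) (Category.id_comp _)).trans
    ((congrArg₂ pl (Category.id_comp _).symm (Category.id_comp _).symm).trans (pl_eta (𝟙 _))))

theorem isAffine_prod_over [S.IsSeparated] (U V : Over S) [IsAffine U.left] [IsAffine V.left] :
    IsAffine (U ⨯ V : Over S).left := by
  haveI : IsAffine (Limits.pullback U.hom V.hom : Scheme) :=
    isAffine_of_isAffineHom (pullback.mapDesc U.hom V.hom (terminal.from S))
  exact IsAffine.of_isIso (Over.prodLeftIsoPullback U V).hom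

/-- Products of affine objects over a separated space are affine. -/
theorem isAffine_prodObj [S.IsSeparated] (hX : IsSeparatedSp X) (E T : EtOver X) [IsAffine E.obj.left.left]
    [IsAffine T.obj.left.left] : IsAffine (EtOver.prodObj E T).obj.left.left := by
  have sq : IsPullback ((yon S).map (T.property.1.fst' E.obj.hom))
      ((yon S).map (T.property.1.snd E.obj.hom)) T.obj.hom E.obj.hom := by
    rw [Functor.relativelyRepresentable.map_fst']
    exact T.property.1.isPullback E.obj.hom
  have h' := Groth.L23.repWith_of_isPullback (Groth.L23.isPullback_diag sq) hX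
  rw [show prod.lift ((yon S).map (T.property.1.fst' E.obj.hom)) ((yon S).map (T.property.1.snd E.obj.hom)) =
    (yon S).map (prod.lift (T.property.1.fst' E.obj.hom) (T.property.1.snd E.obj.hom)) ≫
      prodComparison (yon S) T.obj.left E.obj.left by ext <;> simp [← Functor.map_comp]] at h'
  haveI : IsClosedImmersion (prod.lift (T.property.1.fst' E.obj.hom) (T.property.1.snd E.obj.hom)).left :=
    (repWith_yon_map_iff _ _).1
      ((MorphismProperty.cancel_right_of_respectsIso (RepWith @IsClosedImmersion) _ _).1 h')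
  haveI := isAffine_prod_over T.obj.left E.obj.left
  exact isAffine_of_isAffineHom (prod.lift (T.property.1.fst' E.obj.hom) (T.property.1.snd E.obj.hom)).left

end Groth.L09.EtAlt
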