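import Groth.Agent.L09.EtAlt.Prod
import Groth.Agent.L09.EtCoh.Global
import Groth.Agent.L10.ExtCompare
import Mathlib.Algebra.Category.Grp.Injective
import Mathlib.Data.Finsupp.Basic

/-!
# Sheaves of sections over products with a fixed object
-/

universe u

open CategoryTheory CategoryTheory.Limits AlgebraicGeometry Opposite AlgSp CategoryTheory.Abelian

set_option autoImplicit false
set_option linter.style.haveILetI false
set_option backward.isDefEq.respectTransparency false
set_option backward.isDefEq.respectTransparency.types false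

noncomputable section

namespace Groth.L09.EtAlt

open Groth.L09.ModEt (IsCover)
open Groth.L09.EtCoh

variable {S : Scheme.{u}} {X : Sp S} (T : EtOver X)

theorem isSheaf_prod (F : AbEt X) : Presheaf.IsSheaf (etTop X) ((prodT T).op ⋙ F.obj) := by
  refine (Presheaf.isSheaf_iff_isSheaf_forget _ _ (CategoryTheory.forget AddCommGrpCat.{u + 1})).2
    ((isSheaf_iff_isSheaf_of_type _ _).2 ?_)
  intro E R hR x hx
  let R' := R.pullback (EtOver.prodFst E T)
  have hR' : R' ∈ etTop X (EtOver.prodObj E T) := (etTop X).pullback_stable _ hR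
  let y : Presieve.FamilyOfElements (F.obj ⋙ CategoryTheory.forget _) R'.arrows := fun W k hk =>
    ares F (pl (𝟙 W) (k ≫ EtOver.prodSnd E T)) (x (k ≫ EtOver.prodFst E T) hk)
  have hy : y.Compatible := by
    intro W₁ W₂ Z g₁ g₂ k₁ k₂ h₁ h₂ e
    show ares F g₁ (ares F _ (x _ h₁)) = ares F g₂ (ares F _ (x _ h₂))
    have he : g₁ ≫ k₁ ≫ EtOver.prodFst E T = g₂ ≫ k₂ ≫ EtOver.prodFst E T := by
      rw [← Category.assoc, e, Category.assoc]
    have hw : ∀ {W : EtOver X} (g : Z ⟶ W) (k : W ⟶ EtOver.prodObj E T),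
        g ≫ pl (𝟙 W) (k ≫ EtOver.prodSnd E T) =
          pl (𝟙 Z) ((g ≫ k) ≫ EtOver.prodSnd E T) ≫ (prodT T).map g := fun g k => by
      rw [pl_map, comp_pl, Category.comp_id, Category.id_comp, Category.assoc]
    rw [← ares_comp, ← ares_comp, hw g₁ k₁, hw g₂ k₂, e, ares_comp, ares_comp]
    exact congrArg (ares F _) (hx g₁ g₂ h₁ h₂ he)
  have hamal : ∀ t, x.IsAmalgamation t ↔ y.IsAmalgamation t := fun t => by
    constructor
    · intro ht W k hk
      show ares F k t = ares F _ (x _ hk)
      rw [← ht _ hk]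
      show ares F k t = ares F _ (ares F ((prodT T).map (k ≫ EtOver.prodFst E T)) t)
      rw [← ares_comp]
      refine congrArg (fun m => ares F m t) ?_
      rw [pl_map, Category.id_comp, pl_eta]
    · intro ht W g hg
      have hk : R' ((prodT T).map g) := by
        show R ((prodT T).map g ≫ EtOver.prodFst E T)
        rw [prodT_map_fst]
        exact R.downward_closed hg _
      show ares F ((prodT T).map g) t = x g hg
      have key : ares F (pl (𝟙 _) (EtOver.prodSnd W T)) (ares F ((prodT T).map (EtOver.prodFst W T)) (x g hg)) =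
          ares F (pl (𝟙 _) ((prodT T).map g ≫ EtOver.prodSnd E T)) (x _ hk) := by
        rw [prodT_map_snd]
        refine congrArg (ares F _) ?_
        have h1 := hx (EtOver.prodFst W T) (𝟙 (EtOver.prodObj W T)) hg hk
          (by rw [Category.id_comp, prodT_map_fst])
        exact h1.trans (ConcreteCategory.congr_hom (((prodT T).op ⋙ F.obj).map_id _) _)
      refine ((ht _ hk).trans key.symm).trans ?_
      refine (ares_comp F _ _ _).symm.trans ((congrArg (fun m => ares F m (x g hg)) ?_).trans
        (ConcreteCategory.congr_hom (F.obj.map_id _) _))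
      rw [pl_map, Category.id_comp]
      exact (congrArg (pl _) (Category.id_comp _).symm).trans ((congrArg (fun k => pl k _)
        (Category.id_comp _).symm).trans (pl_eta (𝟙 _)))
  obtain ⟨t, ht, huniq⟩ := isSheaf_types F R' hR' y hy
  exact ⟨t, (hamal t).2 ht, fun t' ht' => huniq t' ((hamal t').1 ht')⟩

/-- Sections over products with `T`, as a functor on sheaves. -/
def PF : AbEt X ⥤ AbEt X where
  obj F := ⟨(prodT T).op ⋙ F.obj, isSheaf_prod T F⟩
  map φ := ⟨Functor.whiskerLeft (prodT T).op φ.hom⟩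

instance : (PF (X := X) T).PreservesZeroMorphisms := ⟨fun _ _ => rfl⟩

variable {T}

/-- Presheaf adjoint: the copower of a presheaf by maps to `T`. -/
def Lp (G : (EtOver X)ᵒᵖ ⥤ AddCommGrpCat.{u + 1}) : (EtOver X)ᵒᵖ ⥤ AddCommGrpCat.{u + 1} where
  obj W := AddCommGrpCat.of ((W.unop ⟶ T) →₀ G.obj W)
  map {W W'} g := AddCommGrpCat.ofHom
    (Finsupp.liftAddHom fun f => (Finsupp.singleAddHom (g.unop ≫ f)).comp (G.map g).hom)
  map_id W := by
    refine AddCommGrpCat.hom_ext (Finsupp.addHom_ext fun f x => ?_)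
    simp
  map_comp g h := by
    refine AddCommGrpCat.hom_ext (Finsupp.addHom_ext fun f x => ?_)
    simp

/-- Functoriality of the copower. -/
def LpMap {G H : (EtOver X)ᵒᵖ ⥤ AddCommGrpCat.{u + 1}} (φ : G ⟶ H) : Lp (T := T) G ⟶ Lp (T := T) H where
  app W := AddCommGrpCat.ofHom (Finsupp.mapRange.addMonoidHom (φ.app W).hom)
  naturality W W' g := by
    refine AddCommGrpCat.hom_ext (Finsupp.addHom_ext fun f x => ?_)
    simp [Lp]

/-- Transpose to the copower. -/
def toL {G : (EtOver X)ᵒᵖ ⥤ AddCommGrpCat.{u + 1}} {F : AbEt X} (φ : G ⟶ ((PF T).obj F).obj) :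
    Lp (T := T) G ⟶ F.obj where
  app W := AddCommGrpCat.ofHom
    (Finsupp.liftAddHom fun f => (ares F (pl (𝟙 W.unop) f)).comp (φ.app W).hom)
  naturality W W' g := by
    refine AddCommGrpCat.hom_ext (Finsupp.addHom_ext fun f x => ?_)
    simp [Lp]
    show ares F _ (φ.app W' (G.map g x)) = ares F g.unop (ares F _ (φ.app W x))
    rw [← ares_comp, NatTrans.naturality_apply φ g x]
    show ares F _ (ares F ((prodT T).map g.unop) (φ.app W x)) = _
    rw [← ares_comp]
    refine congrArg (fun m => ares F m (φ.app W x)) ?_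
    rw [pl_map, comp_pl, Category.id_comp, Category.comp_id]

/-- Transpose from the copower. -/
def fromL {G : (EtOver X)ᵒᵖ ⥤ AddCommGrpCat.{u + 1}} {F : AbEt X} (ψ : Lp (T := T) G ⟶ F.obj) :
    G ⟶ ((PF T).obj F).obj where
  app E := AddCommGrpCat.ofHom ((ψ.app (op (EtOver.prodObj E.unop T))).hom.comp
    ((Finsupp.singleAddHom (EtOver.prodSnd E.unop T)).comp (G.map (EtOver.prodFst E.unop T).op).hom))
  naturality E E' g := by
    refine AddCommGrpCat.hom_ext (AddMonoidHom.ext fun x => ?_)
    show ψ.app _ (Finsupp.single _ (G.map _ (G.map g x))) =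
      F.obj.map ((prodT T).map g.unop).op (ψ.app _ (Finsupp.single _ (G.map _ x)))
    rw [← NatTrans.naturality_apply ψ]
    refine congrArg (ψ.app _) ?_
    refine Eq.trans ?_ (Finsupp.liftAddHom_apply_single _ _ _).symm
    refine congrArg₂ Finsupp.single (prodT_map_snd T g.unop).symm ?_
    rw [← Functor.map_comp_apply, ← Functor.map_comp_apply]
    exact congrArg (fun m => G.map m x) (Quiver.Hom.unop_inj (prodT_map_fst T g.unop).symm)

theorem fromL_toL {G : (EtOver X)ᵒᵖ ⥤ AddCommGrpCat.{u + 1}} {F : AbEt X} (φ : G ⟶ ((PF T).obj F).obj) :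
    fromL (toL φ) = φ := by
  refine NatTrans.ext (funext fun E => AddCommGrpCat.hom_ext (AddMonoidHom.ext fun x => ?_))
  show (toL φ).app _ (Finsupp.single _ (G.map _ x)) = φ.app E x
  refine (Finsupp.liftAddHom_apply_single _ _ _).trans ?_
  show ares F _ (φ.app (op (EtOver.prodObj E.unop T)) (G.map (EtOver.prodFst E.unop T).op x)) = _
  rw [NatTrans.naturality_apply φ]
  show ares F _ (ares F ((prodT T).map (EtOver.prodFst E.unop T)) (φ.app E x)) = _
  rw [← ares_comp]
  refine (congrArg (fun m => ares F m (φ.app E x)) (pl_diag_fst E.unop T)).trans ?_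
  exact ConcreteCategory.congr_hom (F.obj.map_id _) _

theorem fromL_LpMap {G H : (EtOver X)ᵒᵖ ⥤ AddCommGrpCat.{u + 1}} {F : AbEt X} (φ : G ⟶ H)
    (ψ : Lp (T := T) H ⟶ F.obj) : fromL (LpMap φ ≫ ψ) = φ ≫ fromL ψ := by
  refine NatTrans.ext (funext fun E => AddCommGrpCat.hom_ext (AddMonoidHom.ext fun x => ?_))
  show ψ.app _ ((LpMap φ).app _ (Finsupp.single _ (G.map _ x))) = ψ.app _ (Finsupp.single _ (H.map _ (φ.app E x)))
  refine congrArg (ψ.app _) ((Finsupp.mapRange_single (hf := map_zero _)).trans ?_)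
  exact congrArg _ (NatTrans.naturality_apply φ _ _)

instance mono_LpMap {G H : (EtOver X)ᵒᵖ ⥤ AddCommGrpCat.{u + 1}} (φ : G ⟶ H) [Mono φ] :
    Mono (LpMap (T := T) φ) := by
  rw [NatTrans.mono_iff_mono_app]
  intro W
  rw [AddCommGrpCat.mono_iff_injective]
  exact Finsupp.mapRange_injective _ (map_zero _)
    ((AddCommGrpCat.mono_iff_injective _).1 ((NatTrans.mono_iff_mono_app φ).1 inferInstance W))

theorem injective_PF (I : AbEt X) [Injective I] : Injective ((PF T).obj I) := by
  haveI : Injective I.obj :=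
    Injective.injective_of_adjoint (sheafificationAdjunction (etTop X) AddCommGrpCat.{u + 1}) I
  refine ⟨fun {A B} φ i _ => ?_⟩
  haveI : Mono i.hom := inferInstanceAs (Mono ((sheafToPresheaf _ _).map i))
  refine ⟨⟨fromL (Injective.factorThru (toL φ.hom) (LpMap i.hom))⟩, Sheaf.hom_ext ?_⟩
  show i.hom ≫ fromL _ = φ.hom
  rw [← fromL_LpMap, Injective.comp_factorThru, fromL_toL]

variable (T)

theorem shortExact_map_PF (hT : ∀ E : EtOver X, IsAffine E.obj.left.left →
    IsAffine (EtOver.prodObj E T).obj.left.left) {C : ShortComplex (AbEt X)} (hC : C.ShortExact) (h₁ : Cok C.X₁) :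
    (C.map (PF T)).ShortExact := by
  haveI := hC.mono_f
  haveI : Mono (C.map (PF T)).f := by
    refine Functor.mono_of_mono_map (sheafToPresheaf _ _) ?_
    rw [NatTrans.mono_iff_mono_app]
    intro E
    rw [AddCommGrpCat.mono_iff_injective]
    exact app_injective_of_mono C.f (EtOver.prodObj E.unop T)
  haveI : Epi (C.map (PF T)).g := by
    refine (Sheaf.isLocallySurjective_iff_epi' _ _).1 ⟨fun {E} t => ?_⟩
    choose V hV g hg hx using fun x : ↥E.obj.left.left =>
      Groth.L09.ModEt.exists_refinement ((etTop X).top_mem E) x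
    refine (etTop X).superset_covering (fun W a ha => ?_) (ofArrows_mem_etTop V g fun x => ⟨x, hx x⟩)
    obtain ⟨x, k, rfl⟩ := (Sieve.mem_ofArrows_iff _ _ _).1 ha
    refine Sieve.downward_closed _ ?_ k
    haveI := hT (V x) (hV x)
    exact surjective_app hC h₁ (EtOver.prodObj (V x) T) (ares C.X₃ ((prodT T).map (g x)) t)
  let C' := C.map (PF T)
  haveI : IsIso (kernel.lift C'.g C'.f C'.zero) := by
    have hsurj : ∀ E : EtOver X, Function.Surjective ((kernel.lift C'.g C'.f C'.zero).hom.app (op E)) := fun E x => by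
      obtain ⟨z, hz⟩ := exists_of_app_eq_zero hC (EtOver.prodObj E T) ((kernel.ι C'.g).hom.app (op E) x)
        (ConcreteCategory.congr_hom (NatTrans.congr_app
          ((sheafToPresheaf _ _).congr_map (kernel.condition C'.g)) (op E)) x)
      refine ⟨z, app_injective_of_mono (kernel.ι C'.g) E ?_⟩
      exact (ConcreteCategory.congr_hom (NatTrans.congr_app
        ((sheafToPresheaf _ _).congr_map (kernel.lift_ι C'.g C'.f C'.zero)) (op E)) z).trans hz
    haveI : Epi (kernel.lift C'.g C'.f C'.zero) :=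
      (Sheaf.isLocallySurjective_iff_epi' _ _).1 ⟨fun {E} t =>
        (etTop X).superset_covering (fun W a _ => hsurj W _) ((etTop X).top_mem E)⟩
    exact isIso_of_mono_of_epi _
  exact { exact := C'.exact_iff_epi_kernel_lift.2 inferInstance }

/-- The constant sheaf of integers. -/
abbrev zC (X : Sp S) : AbEt X :=
  (constantSheaf (etTop X) AddCommGrpCat.{u + 1}).obj (AddCommGrpCat.of (ULift.{u + 1} ℤ))

/-- Compatible families of sections over products with `T` are sections over `T`. -/
def famEquiv (F : AbEt X) : (zP X ⟶ ((PF T).obj F).obj) ≃+ F.obj.obj (op T) where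
  toFun φ := ares F (pl (𝟙 T) (𝟙 T)) (φ.app (op T) ⟨1⟩)
  invFun s :=
    { app := fun E => AddCommGrpCat.ofHom
        ((zmultiplesHom (((PF T).obj F).obj.obj E) (ares F (EtOver.prodSnd E.unop T) s)).comp
          AddEquiv.ulift.toAddMonoidHom)
      naturality := fun E E' g => AddCommGrpCat.hom_ext (AddMonoidHom.ext fun k => by
        show k.down • ares F (EtOver.prodSnd E'.unop T) s =
          ares F ((prodT T).map g.unop) (k.down • ares F (EtOver.prodSnd E.unop T) s)
        rw [map_zsmul]
        exact congrArg (k.down • ·) ((congrArg (fun m => ares F m s) (prodT_map_snd T g.unop).symm).trans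
          (ares_comp F _ _ s))) }
  left_inv φ := NatTrans.ext (funext fun E => AddCommGrpCat.hom_ext (AddMonoidHom.ext fun k => by
    show k.down • ares F (EtOver.prodSnd E.unop T) (ares F _ (φ.app (op T) ⟨1⟩)) = φ.app E k
    rw [show k = k.down • (⟨1⟩ : ULift.{u + 1} ℤ) from ULift.ext _ _ (by simp), map_zsmul]
    refine congrArg₂ (fun (a : ℤ) b => a • b) (by simp) ?_
    have h₁ := NatTrans.naturality_apply φ (EtOver.prodFst E.unop T).op (⟨1⟩ : ULift.{u + 1} ℤ)
    have h₂ := NatTrans.naturality_apply φ (EtOver.prodSnd E.unop T).op (⟨1⟩ : ULift.{u + 1} ℤ)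
    change φ.app _ ⟨1⟩ = ares F ((prodT T).map (EtOver.prodFst E.unop T)) _ at h₁
    change φ.app _ ⟨1⟩ = ares F ((prodT T).map (EtOver.prodSnd E.unop T)) _ at h₂
    have h := ((ares_comp F _ _ _).trans
      (congrArg (ares F (pl (𝟙 _) (EtOver.prodSnd E.unop T))) (h₁.symm.trans h₂))).trans (ares_comp F _ _ _).symm
    refine (ares_comp F _ _ _).symm.trans (Eq.trans ?_ (h.symm.trans ?_))
    · refine congrArg (fun m => ares F m (φ.app (op T) ⟨1⟩)) ?_
      rw [pl_map, comp_pl, Category.id_comp, Category.comp_id]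
    · exact (congrArg (fun m => ares F m (φ.app E ⟨1⟩)) (pl_diag_fst E.unop T)).trans
        (ConcreteCategory.congr_hom (F.obj.map_id _) _)))
  right_inv s := by
    show ares F _ ((1 : ℤ) • ares F (EtOver.prodSnd T T) s) = s
    rw [one_smul, ← ares_comp, pl_snd]
    exact ConcreteCategory.congr_hom (F.obj.map_id _) _
  map_add' φ ψ := map_add (ares F _) _ _

/-- Global sections of `PF T F` are sections over `T`. -/
def gPF (F : AbEt X) : (fsh T ⟶ F) ≃+ (zC X ⟶ (PF T).obj F) :=
  (({ toEquiv := fshEquiv T F, map_add' := fun a b => by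
        let adj := sheafificationAdjunction (etTop X) AddCommGrpCat.{u + 1}
        show ((adj.homAddEquiv (fp T) F) (a + b)).app (op T) _ =
          ((adj.homAddEquiv (fp T) F) a).app (op T) _ + ((adj.homAddEquiv (fp T) F) b).app (op T) _
        rw [map_add]
        rfl } : (fsh T ⟶ F) ≃+ F.obj.obj (op T))).trans
    ((famEquiv T F).symm.trans
      ((sheafificationAdjunction (etTop X) AddCommGrpCat.{u + 1}).homAddEquiv (zP X) ((PF T).obj F)).symm)

theorem gPF_comp {F F' : AbEt X} (φ : F ⟶ F') (k : fsh T ⟶ F) :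
    gPF T F' (k ≫ φ) = gPF T F k ≫ (PF T).map φ := by
  let aX := sheafificationAdjunction (etTop X) AddCommGrpCat.{u + 1}
  show (aX.homEquiv _ _).symm ((famEquiv T F').symm (fshEquiv T F' (k ≫ φ))) =
    (aX.homEquiv _ _).symm ((famEquiv T F).symm (fshEquiv T F k)) ≫ (PF T).map φ
  rw [← Adjunction.homEquiv_naturality_right_symm, fshEquiv_comp]
  refine congrArg _ (NatTrans.ext (funext fun E => AddCommGrpCat.hom_ext (AddMonoidHom.ext fun n => ?_)))
  show n.down • ares F' _ (φ.hom.app _ _) = φ.hom.app _ (n.down • ares F _ _)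
  rw [map_zsmul, app_res]

/-- Acyclicity of sections over products with an affine object. -/
theorem subsingleton_hEt_PF (hT : ∀ E : EtOver X, IsAffine E.obj.left.left →
    IsAffine (EtOver.prodObj E T).obj.left.left) (hTa : IsAffine T.obj.left.left) (F : AbEt X) (hF : Cok F)
    (n : ℕ) : Subsingleton (HEt X ((PF T).obj F) (n + 1)) := by
  have hs : ∀ G : AbEt X, (ShortComplex.mk (Injective.ι G) (cokernel.π (Injective.ι G))
      (cokernel.condition _)).ShortExact := fun G => { exact := ShortComplex.cokernelSequence_exact _ }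
  obtain ⟨e⟩ := Groth.L10.nonempty_ext_compare (fsh T) (zC X) (PF T) Cok (gPF T)
    (fun φ k => gPF_comp T φ k) (fun G hG => cok_quotient (hs G) hG (cok_of_injective _))
    (fun G hG => shortExact_map_PF T hT (hs G) hG)
    (fun I m hI => by
      haveI := hI
      haveI := injective_PF (T := T) I
      exact Ext.subsingleton_of_injective _ _ m) F hF (n + 1)
  haveI := subsingleton_ext n F hF T hTa
  exact e.symm.toEquiv.subsingleton

end Groth.L09.EtAlt
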