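import Groth.Agent.L09.EtAlt.ProdPush
import Groth.Agent.L09.EtCoh.Pow
import Mathlib.GroupTheory.Perm.Sign
import Mathlib.GroupTheory.Perm.Fin

/-!
# Alternating cochains on powers of an object of the small etale site
-/

universe u

open CategoryTheory CategoryTheory.Limits AlgebraicGeometry Opposite AlgSp

set_option autoImplicit false
set_option linter.style.haveILetI false
set_option backward.isDefEq.respectTransparency false
set_option backward.isDefEq.respectTransparency.types false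

noncomputable section

namespace Groth.L09.EtAlt

open Groth.L09.EtCoh

variable {S : Scheme.{u}} {X : Sp S} (U : EtOver X)

/-- Powers of an object. -/
def T : ℕ → EtOver X
  | 0 => U
  | n + 1 => EtOver.prodObj U (T n)

/-- The projections. -/
def tπ : ∀ n, Fin (n + 1) → (T U n ⟶ U)
  | 0 => fun _ => 𝟙 U
  | n + 1 => fun i =>
    Fin.cases (motive := fun _ => T U (n + 1) ⟶ U) (EtOver.prodFst U (T U n))
      (fun i => EtOver.prodSnd U (T U n) ≫ tπ n i) i

theorem tπ_zero (n : ℕ) : tπ U (n + 1) 0 = EtOver.prodFst U (T U n) := rfl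

theorem tπ_succ (n : ℕ) (i : Fin (n + 1)) : tπ U (n + 1) i.succ = EtOver.prodSnd U (T U n) ≫ tπ U n i := rfl

variable {U}

theorem t_hom_ext {W : EtOver X} : ∀ {n : ℕ} {a b : W ⟶ T U n}, (∀ i, a ≫ tπ U n i = b ≫ tπ U n i) → a = b
  | 0, a, b, h => (Category.comp_id a).symm.trans ((h 0).trans (Category.comp_id b))
  | n + 1, a, b, h => p_hom_ext (h 0) (t_hom_ext fun i => by
      rw [Category.assoc, Category.assoc, ← tπ_succ]
      exact h i.succ)

/-- Maps into a power. -/
def tlift {W : EtOver X} : ∀ {n : ℕ}, (Fin (n + 1) → (W ⟶ U)) → (W ⟶ T U n)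
  | 0, r => r 0
  | _ + 1, r => pl (r 0) (tlift fun i => r i.succ)

theorem tlift_π {W : EtOver X} : ∀ {n : ℕ} (r : Fin (n + 1) → (W ⟶ U)) (i : Fin (n + 1)),
    tlift r ≫ tπ U n i = r i
  | 0, r, i => by
      rw [show i = 0 from Fin.ext (by omega)]
      exact Category.comp_id _
  | n + 1, r, i => by
      refine Fin.cases ?_ (fun j => ?_) i
      · exact pl_fst _ _
      · rw [tπ_succ, ← Category.assoc]
        exact (congrArg (fun k => k ≫ tπ U n j) (pl_snd _ _)).trans (tlift_π (fun i => r i.succ) j)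

/-- Coordinates of a map into a product with a power. -/
abbrev cx {W E : EtOver X} {n : ℕ} (x : W ⟶ EtOver.prodObj E (T U n)) (i : Fin (n + 1)) : W ⟶ U :=
  x ≫ EtOver.prodSnd E (T U n) ≫ tπ U n i

theorem q_hom_ext {W E : EtOver X} {n : ℕ} {a b : W ⟶ EtOver.prodObj E (T U n)}
    (h₁ : a ≫ EtOver.prodFst E (T U n) = b ≫ EtOver.prodFst E (T U n)) (h₂ : ∀ i, cx a i = cx b i) : a = b :=
  p_hom_ext h₁ (t_hom_ext fun i => by rw [Category.assoc, Category.assoc]; exact h₂ i)

variable (U) in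
/-- Reindexing of tuples. -/
def qmap (E : EtOver X) {m n : ℕ} (σ : Fin (n + 1) → Fin (m + 1)) :
    EtOver.prodObj E (T U m) ⟶ EtOver.prodObj E (T U n) :=
  pl (EtOver.prodFst E (T U m)) (tlift fun i => EtOver.prodSnd E (T U m) ≫ tπ U m (σ i))

@[reassoc]
theorem qmap_fst (E : EtOver X) {m n : ℕ} (σ : Fin (n + 1) → Fin (m + 1)) :
    qmap U E σ ≫ EtOver.prodFst E (T U n) = EtOver.prodFst E (T U m) := pl_fst _ _

theorem cx_qmap {W E : EtOver X} {m n : ℕ} (x : W ⟶ EtOver.prodObj E (T U m)) (σ : Fin (n + 1) → Fin (m + 1))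
    (i : Fin (n + 1)) : cx (x ≫ qmap U E σ) i = cx x (σ i) := by
  show (x ≫ qmap U E σ) ≫ EtOver.prodSnd E (T U n) ≫ tπ U n i = _
  rw [Category.assoc, qmap, pl_snd_assoc, tlift_π]

theorem qmap_π (E : EtOver X) {m n : ℕ} (σ : Fin (n + 1) → Fin (m + 1)) (i : Fin (n + 1)) :
    qmap U E σ ≫ EtOver.prodSnd E (T U n) ≫ tπ U n i = EtOver.prodSnd E (T U m) ≫ tπ U m (σ i) := by
  rw [qmap, pl_snd_assoc, tlift_π]

theorem qmap_qmap (E : EtOver X) {l m n : ℕ} (ρ : Fin (m + 1) → Fin (l + 1)) (σ : Fin (n + 1) → Fin (m + 1)) :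
    qmap U E ρ ≫ qmap U E σ = qmap U E (ρ ∘ σ) :=
  q_hom_ext (by rw [Category.assoc, qmap_fst, qmap_fst, qmap_fst]) fun i => by
    rw [cx_qmap]
    show qmap U E ρ ≫ _ = qmap U E (ρ ∘ σ) ≫ _
    rw [qmap_π, qmap_π]
    rfl

theorem qmap_id (E : EtOver X) (n : ℕ) : qmap U E (id : Fin (n + 1) → Fin (n + 1)) = 𝟙 _ :=
  q_hom_ext ((qmap_fst E _).trans (Category.id_comp _).symm) fun i =>
    (qmap_π E id i).trans (Category.id_comp _).symm

theorem qmap_nat {E E' : EtOver X} (g : E' ⟶ E) {m n : ℕ} (σ : Fin (n + 1) → Fin (m + 1)) :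
    (prodT (T U m)).map g ≫ qmap U E σ = qmap U E' σ ≫ (prodT (T U n)).map g := by
  refine q_hom_ext ?_ fun i => ?_
  · rw [Category.assoc, qmap_fst, prodT_map_fst, Category.assoc, prodT_map_fst, qmap_fst_assoc]
  · rw [cx_qmap]
    show (prodT (T U m)).map g ≫ _ = (qmap U E' σ ≫ (prodT (T U n)).map g) ≫ _
    rw [Category.assoc, prodT_map_snd_assoc, prodT_map_snd_assoc, qmap_π]

variable (F : AbEt X) (U)

/-- Cochains. -/
abbrev Pc (n : ℕ) : AbEt X := (PF (T U n)).obj F

/-- The sign of a permutation as an integer. -/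
abbrev sgn {n : ℕ} (σ : Equiv.Perm (Fin n)) : ℤ := ((Equiv.Perm.sign σ : ℤˣ) : ℤ)

/-- Alternating cochains. -/
def IsAlt (n : ℕ) (E : EtOver X) (t : F.obj.obj (op (EtOver.prodObj E (T U n)))) : Prop :=
  (∀ σ : Equiv.Perm (Fin (n + 1)), ares F (qmap U E σ) t = sgn σ • t) ∧
    ∀ (W : EtOver X) (x : W ⟶ EtOver.prodObj E (T U n)) (a b : Fin (n + 1)),
      a ≠ b → cx x a = cx x b → ares F x t = 0

/-- The differential on sections. -/
def dq (n : ℕ) (E : EtOver X) :
    F.obj.obj (op (EtOver.prodObj E (T U n))) →+ F.obj.obj (op (EtOver.prodObj E (T U (n + 1)))) :=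
  ∑ j : Fin (n + 2), (-1 : ℤ) ^ (j : ℕ) • ares F (qmap U E j.succAbove)

theorem dq_apply (n : ℕ) (E : EtOver X) (t : F.obj.obj (op (EtOver.prodObj E (T U n)))) :
    dq U F n E t = ∑ j : Fin (n + 2), (-1 : ℤ) ^ (j : ℕ) • ares F (qmap U E j.succAbove) t := by
  simp [dq]

theorem dq_nat (n : ℕ) {E E' : EtOver X} (g : E' ⟶ E) (t : F.obj.obj (op (EtOver.prodObj E (T U n)))) :
    dq U F n E' (ares F ((prodT (T U n)).map g) t) = ares F ((prodT (T U (n + 1))).map g) (dq U F n E t) := by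
  rw [dq_apply, dq_apply, map_sum]
  refine Finset.sum_congr rfl fun j _ => ?_
  rw [map_zsmul]
  refine congrArg (fun z => (-1 : ℤ) ^ (j : ℕ) • z) ?_
  exact (ares_comp F _ _ t).symm.trans
    ((congrArg (fun m => ares F m t) (qmap_nat g j.succAbove).symm).trans (ares_comp F _ _ t))

/-- The differential. -/
def dP (n : ℕ) : Pc U F n ⟶ Pc U F (n + 1) :=
  ⟨{ app := fun E => AddCommGrpCat.ofHom (dq U F n E.unop)
     naturality := fun _ _ g => AddCommGrpCat.hom_ext (AddMonoidHom.ext fun t => dq_nat U F n g.unop t) }⟩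

variable {U F}

theorem swap_succAbove_of_mem {n : ℕ} (k : Fin (n + 1)) (i : Fin (n + 1)) :
    Equiv.swap k.castSucc k.succ (k.castSucc.succAbove i) = k.succ.succAbove i := by
  simp only [Fin.succAbove, Equiv.swap_apply_def]
  split_ifs <;> simp only [Fin.lt_def, Fin.ext_iff, Fin.val_succ, Fin.val_castSucc] at * <;> omega

theorem sgn_mul {n : ℕ} (σ τ : Equiv.Perm (Fin n)) : sgn (σ * τ) = sgn σ * sgn τ := by
  simp [sgn]

theorem ares_qmap_dq {n : ℕ} {E : EtOver X} {t : F.obj.obj (op (EtOver.prodObj E (T U n)))}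
    (ht : IsAlt U F n E t) (k : Fin (n + 1)) :
    ares F (qmap U E (Equiv.swap k.castSucc k.succ)) (dq U F n E t) = -dq U F n E t := by
  classical
  let τ := Equiv.swap k.castSucc k.succ
  have key : ∀ j : Fin (n + 2), ∃ π : Equiv.Perm (Fin (n + 1)),
      (τ : Fin (n + 2) → Fin (n + 2)) ∘ j.succAbove = (τ j).succAbove ∘ π ∧
        (-1 : ℤ) ^ (j : ℕ) * sgn π = -(-1 : ℤ) ^ (τ j : ℕ) := by
    intro j
    by_cases h₁ : j = k.castSucc
    · subst h₁
      refine ⟨1, funext fun i => ?_, ?_⟩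
      · simp only [τ, Function.comp_apply, Equiv.swap_apply_left, Equiv.Perm.one_apply]
        exact swap_succAbove_of_mem k i
      · simp [τ, pow_succ]
    · by_cases h₂ : j = k.succ
      · subst h₂
        refine ⟨1, funext fun i => ?_, ?_⟩
        · simp only [τ, Function.comp_apply, Equiv.swap_apply_right, Equiv.Perm.one_apply]
          rw [← swap_succAbove_of_mem k i, Equiv.swap_apply_self]
        · simp [τ, pow_succ]
      · obtain ⟨a, ha⟩ := Fin.exists_succAbove_eq (fun h => h₁ h.symm : k.castSucc ≠ j)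
        obtain ⟨b, hb⟩ := Fin.exists_succAbove_eq (fun h => h₂ h.symm : k.succ ≠ j)
        have hab : a ≠ b := fun h => (Fin.castSucc_lt_succ (i := k)).ne (ha.symm.trans ((congrArg _ h).trans hb))
        have hτj : τ j = j := Equiv.swap_apply_of_ne_of_ne h₁ h₂
        refine ⟨Equiv.swap a b, funext fun i => ?_, ?_⟩
        · simp only [Function.comp_apply, hτj]
          rw [show τ = Equiv.swap (j.succAbove a) (j.succAbove b) by rw [ha, hb]]
          exact (Fin.succAbove_right_injective.swap_apply a b i)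
        · rw [hτj, sgn, Equiv.Perm.sign_swap hab]
          simp
  choose π hπ hs using key
  rw [dq_apply, map_sum, ← Finset.sum_neg_distrib]
  refine Fintype.sum_equiv τ _ _ fun j => ?_
  rw [map_zsmul, ← ares_comp, qmap_qmap, hπ j, ← qmap_qmap, ares_comp, ht.1, map_zsmul, smul_smul, hs, neg_smul]

theorem exists_perm {n : ℕ} (a b : Fin (n + 2)) (hab : a ≠ b) :
    ∃ σ : Equiv.Perm (Fin (n + 2)), σ 0 = a ∧ σ 1 = b := by
  refine ⟨(Equiv.swap 1 ((Equiv.swap 0 a) b)).trans (Equiv.swap 0 a), ?_, ?_⟩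
  · have h : (0 : Fin (n + 2)) ≠ Equiv.swap 0 a b := fun h => hab (by
      have := congrArg (Equiv.swap 0 a) h
      rwa [Equiv.swap_apply_self, Equiv.swap_apply_left] at this)
    rw [Equiv.trans_apply, Equiv.swap_apply_of_ne_of_ne Fin.zero_ne_one h, Equiv.swap_apply_left]
  · rw [Equiv.trans_apply, Equiv.swap_apply_left, Equiv.swap_apply_self]

theorem isAlt_dq {n : ℕ} {E : EtOver X} {t : F.obj.obj (op (EtOver.prodObj E (T U n)))}
    (ht : IsAlt U F n E t) : IsAlt U F (n + 1) E (dq U F n E t) := by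
  have h₁ : ∀ σ : Equiv.Perm (Fin (n + 2)), ares F (qmap U E σ) (dq U F n E t) = sgn σ • dq U F n E t := by
    intro σ
    have hσ : σ ∈ Submonoid.closure (Set.range fun k : Fin (n + 1) => Equiv.swap k.castSucc k.succ) := by
      rw [Equiv.Perm.mclosure_swap_castSucc_succ]; trivial
    induction hσ using Submonoid.closure_induction with
    | mem x hx =>
      obtain ⟨k, rfl⟩ := hx
      rw [ares_qmap_dq ht k, sgn, Equiv.Perm.sign_swap (Fin.castSucc_lt_succ (i := k)).ne]
      simp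
    | one =>
      rw [Equiv.Perm.coe_one, qmap_id]
      refine (ConcreteCategory.congr_hom (F.obj.map_id _) _).trans ?_
      simp [sgn]
    | mul x y _ _ hx hy =>
      rw [Equiv.Perm.coe_mul, ← qmap_qmap, ares_comp, hy, map_zsmul, hx, smul_smul, sgn_mul, mul_comm]
  refine ⟨h₁, fun W x a b hab hc => ?_⟩
  obtain ⟨σ, hσa, hσb⟩ := exists_perm a b hab
  suffices h : ∀ (x : W ⟶ EtOver.prodObj E (T U (n + 1))), cx x 0 = cx x 1 → ares F x (dq U F n E t) = 0 by
    have h2 := h (x ≫ qmap U E σ) (by rw [cx_qmap, cx_qmap, hσa, hσb]; exact hc)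
    rw [ares_comp, h₁, map_zsmul] at h2
    rcases Int.units_eq_one_or (Equiv.Perm.sign σ) with hs | hs <;> simpa [sgn, hs] using h2
  intro x hx
  rw [dq_apply, map_sum, Fin.sum_univ_succ, Fin.sum_univ_succ]
  have hrest : ∀ j : Fin n, ares F x ((-1 : ℤ) ^ (j.succ.succ : ℕ) • ares F (qmap U E j.succ.succ.succAbove) t) = 0 := by
    intro j
    obtain ⟨m, rfl⟩ : ∃ m, n = m + 1 := ⟨n - 1, by have := j.2; omega⟩
    rw [map_zsmul, ← ares_comp, ht.2 W _ 0 1 Fin.zero_ne_one (by
      rw [cx_qmap, cx_qmap, Fin.succ_succAbove_zero, Fin.succ_succAbove_one]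
      exact hx), smul_zero]
  rw [Finset.sum_eq_zero fun j _ => hrest j, add_zero, map_zsmul, map_zsmul, ← ares_comp, ← ares_comp,
    show x ≫ qmap U E (Fin.succAbove (Fin.succ 0 : Fin (n + 2))) = x ≫ qmap U E (Fin.succAbove (0 : Fin (n + 2))) from
      q_hom_ext (by rw [Category.assoc, Category.assoc, qmap_fst, qmap_fst]) fun i => by
        rw [cx_qmap, cx_qmap]
        refine Fin.cases ?_ (fun i => ?_) i
        · rw [Fin.succ_succAbove_zero, Fin.zero_succAbove]
          exact hx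
        · rw [Fin.succ_succAbove_succ, Fin.zero_succAbove, Fin.zero_succAbove]]
  simp

variable (U) in
/-- Prepending a section. -/
def qcons {E : EtOver X} (s : E ⟶ U) (n : ℕ) : EtOver.prodObj E (T U n) ⟶ EtOver.prodObj E (T U (n + 1)) :=
  pl (EtOver.prodFst E (T U n)) (pl (EtOver.prodFst E (T U n) ≫ s) (EtOver.prodSnd E (T U n)))

theorem qcons_zero {E : EtOver X} (s : E ⟶ U) (n : ℕ) :
    cx (qcons U s n) 0 = EtOver.prodFst E (T U n) ≫ s := by
  show qcons U s n ≫ _ ≫ tπ U (n + 1) 0 = _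
  rw [qcons, pl_snd_assoc, tπ_zero]
  exact pl_fst _ _

theorem qcons_succ {E : EtOver X} (s : E ⟶ U) (n : ℕ) (i : Fin (n + 1)) :
    cx (qcons U s n) i.succ = EtOver.prodSnd E (T U n) ≫ tπ U n i := by
  show qcons U s n ≫ _ ≫ tπ U (n + 1) i.succ = _
  rw [qcons, pl_snd_assoc, tπ_succ, ← Category.assoc]
  exact congrArg (fun k => k ≫ tπ U n i) (pl_snd _ _)

theorem qcons_face_zero {E : EtOver X} (s : E ⟶ U) (n : ℕ) :
    qcons U s n ≫ qmap U E (Fin.succAbove (0 : Fin (n + 2))) = 𝟙 _ :=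
  q_hom_ext (by rw [Category.assoc, qmap_fst, qcons, pl_fst, Category.id_comp]) fun i => by
    rw [cx_qmap, Fin.zero_succAbove, qcons_succ]
    exact (Category.id_comp _).symm

theorem qcons_face_succ {E : EtOver X} (s : E ⟶ U) (n : ℕ) (j : Fin (n + 2)) :
    qcons U s (n + 1) ≫ qmap U E j.succ.succAbove = qmap U E j.succAbove ≫ qcons U s n :=
  q_hom_ext (by rw [Category.assoc, qmap_fst, qcons, pl_fst, Category.assoc, qcons, pl_fst, qmap_fst]) fun i => by
    rw [cx_qmap]
    refine Fin.cases ?_ (fun i => ?_) i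
    · rw [Fin.succ_succAbove_zero, qcons_zero]
      show _ = (qmap U E j.succAbove ≫ qcons U s n) ≫ _
      rw [Category.assoc]
      exact ((congrArg (fun k => qmap U E j.succAbove ≫ k) (qcons_zero s n)).trans
        (qmap_fst_assoc E j.succAbove s)).symm
    · rw [Fin.succ_succAbove_succ, qcons_succ]
      show _ = (qmap U E j.succAbove ≫ qcons U s n) ≫ _
      rw [Category.assoc]
      exact ((congrArg (fun k => qmap U E j.succAbove ≫ k) (qcons_succ s n i)).trans (qmap_π E j.succAbove i)).symm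

theorem homotopy {E : EtOver X} (s : E ⟶ U) (n : ℕ) (t : F.obj.obj (op (EtOver.prodObj E (T U (n + 1))))) :
    dq U F n E (ares F (qcons U s n) t) + ares F (qcons U s (n + 1)) (dq U F (n + 1) E t) = t := by
  rw [dq_apply, dq_apply, map_sum, Fin.sum_univ_succ
    (f := fun j => ares F (qcons U s (n + 1)) ((-1 : ℤ) ^ (j : ℕ) • ares F (qmap U E j.succAbove) t)),
    map_zsmul, ← ares_comp, qcons_face_zero, add_left_comm, ← Finset.sum_add_distrib,
    Finset.sum_eq_zero (fun j _ => ?_), add_zero, Fin.val_zero, pow_zero, one_smul]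
  · exact ConcreteCategory.congr_hom (F.obj.map_id _) _
  · rw [map_zsmul, ← ares_comp, ← ares_comp, qcons_face_succ, Fin.val_succ, pow_succ, mul_neg_one, neg_smul,
      add_neg_cancel]

theorem isAlt_qcons {E : EtOver X} (s : E ⟶ U) {n : ℕ} {t : F.obj.obj (op (EtOver.prodObj E (T U (n + 1))))}
    (ht : IsAlt U F (n + 1) E t) : IsAlt U F n E (ares F (qcons U s n) t) := by
  refine ⟨fun σ => ?_, fun W x a b hab hc => ?_⟩
  · let σ' := Equiv.Perm.decomposeFin.symm (0, σ)
    have h₁ : qmap U E σ ≫ qcons U s n = qcons U s n ≫ qmap U E σ' :=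
      q_hom_ext (by rw [Category.assoc, qcons, pl_fst, qmap_fst, Category.assoc, qmap_fst, pl_fst]) fun i => by
        rw [cx_qmap]
        show (qmap U E σ ≫ qcons U s n) ≫ _ = _
        rw [Category.assoc]
        refine Fin.cases ?_ (fun i => ?_) i
        · rw [Equiv.Perm.decomposeFin_symm_apply_zero, qcons_zero]
          exact (congrArg (fun k => qmap U E σ ≫ k) (qcons_zero s n)).trans (qmap_fst_assoc E _ s)
        · rw [Equiv.Perm.decomposeFin_symm_apply_succ, Equiv.swap_self, Equiv.refl_apply, qcons_succ]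
          exact (congrArg (fun k => qmap U E σ ≫ k) (qcons_succ s n i)).trans (qmap_π E _ i)
    rw [← ares_comp, h₁, ares_comp, ht.1, map_zsmul]
    refine congrArg (fun z : ℤ => z • _) ?_
    simp [sgn, σ', Equiv.Perm.decomposeFin.symm_sign]
  · rw [← ares_comp]
    have hc' : ∀ i : Fin (n + 1), cx (x ≫ qcons U s n) i.succ = cx x i := fun i => by
      show (x ≫ qcons U s n) ≫ _ = _
      rw [Category.assoc]
      exact congrArg (fun k => x ≫ k) (qcons_succ s n i)
    exact ht.2 W _ a.succ b.succ (fun h => hab (Fin.succ_injective _ h)) (by rw [hc', hc']; exact hc)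

/-- The simplicial object of tuples. -/
def tnerve (U' E : EtOver X) : SimplexCategoryᵒᵖ ⥤ EtOver X where
  obj m := EtOver.prodObj E (T U' m.unop.len)
  map φ := qmap U' E φ.unop.toOrderHom
  map_id m := qmap_id E m.unop.len
  map_comp φ ψ := (qmap_qmap (U := U') E φ.unop.toOrderHom ψ.unop.toOrderHom).symm

theorem dq_dq (n : ℕ) (E : EtOver X) (t : F.obj.obj (op (EtOver.prodObj E (T U n)))) :
    dq U F (n + 1) E (dq U F n E t) = 0 := by
  let Y : CosimplicialObject AddCommGrpCat.{u + 1} := (tnerve U E).rightOp ⋙ F.obj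
  have key : ∀ (m : ℕ) (z : F.obj.obj (op (EtOver.prodObj E (T U m)))),
      (AlgebraicTopology.AlternatingCofaceMapComplex.objD Y m) z = dq U F m E z := fun m z => by
    rw [dq_apply, AlgebraicTopology.AlternatingCofaceMapComplex.objD]
    change (AddCommGrpCat.homAddEquiv (∑ i : Fin (m + 2), (-1 : ℤ) ^ (i : ℕ) • Y.δ i)) z = _
    simp only [map_sum, map_zsmul, AddMonoidHom.finsetSum_apply]
    rfl
  have h := ConcreteCategory.congr_hom (AlgebraicTopology.AlternatingCofaceMapComplex.d_squared Y n) t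
  rw [ConcreteCategory.comp_apply] at h
  exact ((congrArg (dq U F (n + 1) E) (key n t)).symm.trans (key (n + 1) _).symm).trans h

/-- The augmentation. -/
def aug (E : EtOver X) : F.obj.obj (op E) →+ F.obj.obj (op (EtOver.prodObj E (T U 0))) :=
  ares F (EtOver.prodFst E (T U 0))

theorem dq_aug (E : EtOver X) (m : F.obj.obj (op E)) : dq U F 0 E (aug (U := U) E m) = 0 := by
  rw [dq_apply, Fin.sum_univ_two, aug, ← ares_comp, ← ares_comp, qmap_fst, qmap_fst]
  simp

theorem aug_of_dq_eq_zero {E : EtOver X} (s : E ⟶ U) {t : F.obj.obj (op (EtOver.prodObj E (T U 0)))}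
    (ht : dq U F 0 E t = 0) : aug (U := U) E (ares F (pl (B := T U 0) (𝟙 E) s) t) = t := by
  have h := congrArg (ares F (qcons U s 0)) ht
  rw [dq_apply, Fin.sum_univ_two, map_zero, map_add, map_zsmul, map_zsmul, ← ares_comp, ← ares_comp,
    qcons_face_zero] at h
  have h1 : qcons U s 0 ≫ qmap U E (Fin.succAbove (1 : Fin 2)) = EtOver.prodFst E (T U 0) ≫ pl (B := T U 0) (𝟙 E) s := by
    refine q_hom_ext ?_ fun i => ?_
    · rw [Category.assoc, qmap_fst, qcons, pl_fst, Category.assoc, pl_fst, Category.comp_id]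
    · rw [cx_qmap, show (1 : Fin 2).succAbove i = 0 by fin_cases i; rfl, qcons_zero]
      show _ = (EtOver.prodFst E (T U 0) ≫ pl (B := T U 0) (𝟙 E) s) ≫ EtOver.prodSnd E (T U 0) ≫ tπ U 0 i
      rw [Category.assoc, pl_snd_assoc]
      exact congrArg _ (Category.comp_id s).symm
  rw [h1] at h
  simp only [Fin.val_zero, Fin.val_one, pow_zero, pow_one, one_smul, neg_smul] at h
  rw [add_neg_eq_zero] at h
  refine (ares_comp F _ _ t).symm.trans (h.symm.trans ?_)
  exact ConcreteCategory.congr_hom (F.obj.map_id _) _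

theorem isAlt_zero (E : EtOver X) (t : F.obj.obj (op (EtOver.prodObj E (T U 0)))) : IsAlt U F 0 E t := by
  refine ⟨fun σ => ?_, fun W x a b hab => absurd (Fin.ext (by omega)) hab⟩
  rw [show σ = 1 from Equiv.ext fun i => Fin.ext (by omega), Equiv.Perm.coe_one, qmap_id]
  refine (ConcreteCategory.congr_hom (F.obj.map_id _) _).trans ?_
  simp [sgn]

end Groth.L09.EtAlt
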