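import Groth.Agent.L09.EtAlt.Locus
import Groth.Agent.L09.EtCoh.Qcoh

/-!
# The alternating Cech resolution and vanishing of cohomology
-/

universe u

open CategoryTheory CategoryTheory.Limits AlgebraicGeometry Opposite AlgSp CategoryTheory.Abelian

set_option autoImplicit false
set_option linter.style.haveILetI false
set_option backward.isDefEq.respectTransparency false
set_option backward.isDefEq.respectTransparency.types false

noncomputable section

namespace Groth.L09.EtAlt

open Groth.L09.ModEt (Γ₀ pb pb_comp res res_smul res_comp openObj openι IsCover)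
open Groth.L09.EtCoh

variable {S : Scheme.{u}} {X : Sp S} (U : EtOver X) (M : ModEt X)

/-- The underlying abelian sheaf. -/
abbrev Fm : AbEt X := (toAbEt X).obj M

/-- The weighted antisymmetrisation. -/
def eq' (n : ℕ) (a : Γ₀ (T U n)) (E : EtOver X) :
    sectModEt M (EtOver.prodObj E (T U n)) →+ sectModEt M (EtOver.prodObj E (T U n)) :=
  ∑ σ : Equiv.Perm (Fin (n + 1)), sgn σ • (res M (qmap U E σ)).comp
    (DistribSMul.toAddMonoidHom (sectModEt M (EtOver.prodObj E (T U n))) (pb (EtOver.prodSnd E (T U n)) a))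

theorem eq'_apply (n : ℕ) (a : Γ₀ (T U n)) (E : EtOver X) (t : sectModEt M (EtOver.prodObj E (T U n))) :
    eq' U M n a E t = ∑ σ : Equiv.Perm (Fin (n + 1)),
      sgn σ • res M (qmap U E σ) (pb (EtOver.prodSnd E (T U n)) a • t) := by
  simp [eq']

theorem eq'_nat (n : ℕ) (a : Γ₀ (T U n)) {E E' : EtOver X} (g : E' ⟶ E)
    (t : sectModEt M (EtOver.prodObj E (T U n))) :
    eq' U M n a E' (res M ((prodT (T U n)).map g) t) = res M ((prodT (T U n)).map g) (eq' U M n a E t) := by
  rw [eq'_apply, eq'_apply, map_sum]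
  refine Finset.sum_congr rfl fun σ _ => ?_
  rw [map_zsmul]
  refine congrArg (fun z => sgn σ • z) ?_
  have h1 : pb ((prodT (T U n)).map g) (pb (EtOver.prodSnd E (T U n)) a) = pb (EtOver.prodSnd E' (T U n)) a :=
    (pb_comp _ _ a).symm.trans (congrArg (fun k => pb k a) (prodT_map_snd _ g))
  refine (congrArg (res M (qmap U E' σ)) ((congrArg (fun c => c • _) h1.symm).trans (res_smul M _ _ t).symm)).trans ?_
  exact (res_comp M _ _ _).symm.trans
    ((congrArg (fun m => res M m _) (qmap_nat g σ).symm).trans (res_comp M _ _ _))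

/-- The weighted antisymmetrisation of sheaves. -/
def eP (n : ℕ) (a : Γ₀ (T U n)) : Pc U (Fm M) n ⟶ Pc U (Fm M) n :=
  ⟨{ app := fun E => AddCommGrpCat.ofHom (eq' U M n a E.unop)
     naturality := fun _ _ g => AddCommGrpCat.hom_ext (AddMonoidHom.ext fun t => eq'_nat U M n a g.unop t) }⟩

theorem isAlt_eq' (n : ℕ) (a : Γ₀ (T U n)) (E : EtOver X) (t : sectModEt M (EtOver.prodObj E (T U n))) :
    IsAlt U (Fm M) n E (eq' U M n a E t) := by
  classical
  let z := pb (EtOver.prodSnd E (T U n)) a • t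
  refine ⟨fun τ => ?_, fun W x i j hij hc => ?_⟩
  · show res M (qmap U E τ) (eq' U M n a E t) = sgn τ • eq' U M n a E t
    rw [eq'_apply, map_sum, Finset.smul_sum]
    refine Fintype.sum_equiv (Equiv.mulLeft τ) _ _ fun σ => ?_
    rw [map_zsmul, smul_smul]
    refine congrArg₂ (fun (c : ℤ) m => c • m) ?_ ?_
    · show sgn σ = sgn τ * sgn (τ * σ)
      rw [sgn_mul, ← mul_assoc]
      rcases Int.units_eq_one_or (Equiv.Perm.sign τ) with hs | hs <;> simp [sgn, hs]
    · exact (res_comp M _ _ z).symm.trans (congrArg (fun m => res M m z) (qmap_qmap E _ _))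
  · show res M x (eq' U M n a E t) = 0
    rw [eq'_apply, map_sum]
    refine Finset.sum_involution (fun σ _ => Equiv.swap i j * σ) (fun σ _ => ?_) (fun σ _ _ => ?_)
      (fun _ _ => Finset.mem_univ _) (fun σ _ => ?_)
    · rw [map_zsmul, map_zsmul, sgn_mul, show sgn (Equiv.swap i j) = -1 by
        rw [sgn, Equiv.Perm.sign_swap hij]; rfl, neg_one_mul, neg_smul,
        ← res_comp, ← res_comp,
        show x ≫ qmap U E (Equiv.swap i j * σ : Equiv.Perm (Fin (n + 1))) = x ≫ qmap U E σ from
          q_hom_ext (by rw [Category.assoc, Category.assoc, qmap_fst, qmap_fst]) fun k => by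
            rw [cx_qmap, cx_qmap]
            show cx x (Equiv.swap i j (σ k)) = _
            rcases eq_or_ne (σ k) i with h | h
            · rw [h, Equiv.swap_apply_left, hc]
            · rcases eq_or_ne (σ k) j with h' | h'
              · rw [h', Equiv.swap_apply_right, hc]
              · rw [Equiv.swap_apply_of_ne_of_ne h h']]
      exact add_neg_cancel _
    · exact fun h => hij (Equiv.swap_eq_one_iff.1 (mul_eq_right.1 h))
    · rw [← mul_assoc, Equiv.swap_mul_self, one_mul]

variable [S.IsSeparated] (hX : IsSeparatedSp X) [IsAffine U.obj.left.left]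

/-- The weight. -/
def wt (n : ℕ) : Γ₀ (T U n) := (exists_trace U hX n).choose

include hX in
theorem eq'_of_isAlt (n : ℕ) (E : EtOver X) {t : sectModEt M (EtOver.prodObj E (T U n))}
    (ht : IsAlt U (Fm M) n E t) : eq' U M n (wt U hX n) E t = t := by
  let P := EtOver.prodObj E (T U n)
  let c : Γ₀ P := ∑ σ : Equiv.Perm (Fin (n + 1)), pb (qmap U E σ) (pb (EtOver.prodSnd E (T U n)) (wt U hX n))
  have h1 : eq' U M n (wt U hX n) E t = c • t := by
    rw [eq'_apply, Finset.sum_smul]
    refine Finset.sum_congr rfl fun σ _ => ?_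
    rw [res_smul, show res M (qmap U E σ) t = sgn σ • t from ht.1 σ, smul_comm (sgn σ), smul_smul]
    rw [show sgn σ * sgn σ = 1 by
      rcases Int.units_eq_one_or (Equiv.Perm.sign σ) with hs | hs <;> simp [sgn, hs], one_smul]
  rw [h1]
  let snd : P ⟶ T U n := EtOver.prodSnd E (T U n)
  have hex : ∀ y : P.obj.left.left, ∃ (V : EtOver X) (g : V ⟶ P),
      y ∈ Set.range g.hom.left.left ∧ res M g (c • t) = res M g t := by
    intro y
    by_cases hy : snd.hom.left.left y ∈ bad U n
    · obtain ⟨⟨⟨i, j⟩, hij⟩, hy⟩ := Set.mem_iUnion.1 hy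
      obtain ⟨v, hv⟩ := hy
      let k := pl (snd ≫ tπ U n i) (snd ≫ tπ U n j)
      have hk : snd ≫ pair U n i j = k := comp_pair U i j snd
      have hv' : k.hom.left.left y = (diagU U).hom.left.left v := by rw [← hk]; exact hv.symm
      obtain ⟨p, hp, -⟩ := Scheme.exists_preimage_of_isPullback
        ((EtOver.isPullback k (diagU U)).map (EtOver.toScheme X)) y v hv'
      refine ⟨_, EtOver.pullbackFst k (diagU U), ⟨p, hp⟩, ?_⟩
      have h0 : res M (EtOver.pullbackFst k (diagU U)) t = 0 := by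
        refine ht.2 _ _ i j hij ?_
        have h := EtOver.pullback_condition k (diagU U)
        have h₁ := congrArg (fun k => k ≫ EtOver.prodFst U U) h
        have h₂ := congrArg (fun k => k ≫ EtOver.prodSnd U U) h
        simp only [k, diagU, Category.assoc, pl_fst, pl_snd] at h₁ h₂
        exact h₁.trans h₂.symm
      rw [res_smul, h0, smul_zero]
    · let B : P.obj.left.left.Opens :=
        ⟨(snd.hom.left.left ⁻¹' bad U n)ᶜ,
          ((isClopen_bad U hX n).isClosed.preimage (Scheme.Hom.continuous _)).isOpen_compl⟩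
      refine ⟨openObj P B, openι P B, ⟨⟨y, hy⟩, rfl⟩, ?_⟩
      rw [res_smul]
      have hc : pb (openι P B) c = 1 := by
        refine (map_sum _ _ _).trans (Eq.trans (Finset.sum_congr rfl fun σ _ => ?_)
          ((exists_trace U hX n).choose_spec _ (openι P B ≫ snd) fun w => w.2))
        rw [← pb_comp, ← pb_comp, Category.assoc, Category.assoc, qmap_perm_snd]
        rfl
      rw [hc, one_smul]
  choose V g hg hres using hex
  exact Groth.L09.ModEt.eq_of_cover M (c := g) (fun y => ⟨y, hg y⟩) hres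

theorem eP_idem (n : ℕ) : eP U M n (wt U hX n) ≫ eP U M n (wt U hX n) = eP U M n (wt U hX n) :=
  Sheaf.hom_ext (NatTrans.ext (funext fun E => AddCommGrpCat.hom_ext (AddMonoidHom.ext fun t =>
    eq'_of_isAlt U M hX n E.unop (isAlt_eq' U M n _ E.unop t))))

/-- The sheaf of alternating cochains. -/
abbrev Ac (n : ℕ) : AbEt X := kernel (𝟙 (Pc U (Fm M) n) - eP U M n (wt U hX n))

/-- Its inclusion. -/
abbrev ιA (n : ℕ) : Ac U M hX n ⟶ Pc U (Fm M) n := kernel.ι _

theorem ιA_eP (n : ℕ) : ιA U M hX n ≫ eP U M n (wt U hX n) = ιA U M hX n := by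
  have h := kernel.condition (𝟙 (Pc U (Fm M) n) - eP U M n (wt U hX n))
  rw [Preadditive.comp_sub, Category.comp_id, sub_eq_zero] at h
  exact h.symm

theorem isAlt_ιA (n : ℕ) (E : EtOver X) (z : (Ac U M hX n).obj.obj (op E)) :
    IsAlt U (Fm M) n E ((ιA U M hX n).hom.app (op E) z) := by
  exact (congrArg (IsAlt U (Fm M) n E) (ConcreteCategory.congr_hom (NatTrans.congr_app
    ((sheafToPresheaf _ _).congr_map (ιA_eP U M hX n)) (op E)) z)).mp (isAlt_eq' U M n _ E _)

theorem exists_ιA {n : ℕ} {E : EtOver X} {t : sectModEt M (EtOver.prodObj E (T U n))}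
    (ht : IsAlt U (Fm M) n E t) : ∃ z, (ιA U M hX n).hom.app (op E) z = t := by
  let r : Pc U (Fm M) n ⟶ Ac U M hX n := kernel.lift _ (eP U M n (wt U hX n))
    (by rw [Preadditive.comp_sub, Category.comp_id, eP_idem, sub_self])
  refine ⟨r.hom.app (op E) t, ?_⟩
  have h : r ≫ ιA U M hX n = eP U M n (wt U hX n) := kernel.lift_ι _ _ _
  exact Eq.trans (ConcreteCategory.congr_hom (NatTrans.congr_app
    ((sheafToPresheaf _ _).congr_map h) (op E)) t) (eq'_of_isAlt U M hX n E ht)

/-- The differential. -/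
def dA (n : ℕ) : Ac U M hX n ⟶ Ac U M hX (n + 1) :=
  kernel.lift _ (ιA U M hX n ≫ dP U (Fm M) n) (by
    rw [Preadditive.comp_sub, Category.comp_id, sub_eq_zero]
    exact Sheaf.hom_ext (NatTrans.ext (funext fun E => AddCommGrpCat.hom_ext (AddMonoidHom.ext fun z =>
      (eq'_of_isAlt U M hX (n + 1) E.unop (isAlt_dq (isAlt_ιA U M hX n E.unop z))).symm))))

theorem ιA_dA (n : ℕ) (E : EtOver X) (z : (Ac U M hX n).obj.obj (op E)) :
    (ιA U M hX (n + 1)).hom.app (op E) ((dA U M hX n).hom.app (op E) z) =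
      dq U (Fm M) n E ((ιA U M hX n).hom.app (op E) z) :=
  ConcreteCategory.congr_hom (NatTrans.congr_app ((sheafToPresheaf _ _).congr_map (kernel.lift_ι _ _ _)) (op E)) z

theorem dA_dA (n : ℕ) : dA U M hX n ≫ dA U M hX (n + 1) = 0 :=
  Sheaf.hom_ext (NatTrans.ext (funext fun E => AddCommGrpCat.hom_ext (AddMonoidHom.ext fun z =>
    app_injective_of_mono (ιA U M hX (n + 2)) E.unop (by
      refine ((ιA_dA U M hX (n + 1) E.unop _).trans ((congrArg _ (ιA_dA U M hX n E.unop z)).trans
        (dq_dq n E.unop _))).trans (map_zero _).symm))))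

/-- The cocycles. -/
abbrev Zc (n : ℕ) : AbEt X := kernel (dA U M hX n)

variable (hloc : ∀ (E : EtOver X) (t : E.obj.left.left),
  ∃ (W : EtOver X) (g : W ⟶ E), t ∈ Set.range g.hom.left.left ∧ Nonempty (W ⟶ U))

/-- The short complex of cocycles. -/
def seqZ (n : ℕ) : ShortComplex (AbEt X) :=
  ShortComplex.mk (kernel.ι (dA U M hX n)) (kernel.lift (dA U M hX (n + 1)) (dA U M hX n) (dA_dA U M hX n))
    (by rw [← cancel_mono (kernel.ι (dA U M hX (n + 1))), Category.assoc, kernel.lift_ι, kernel.condition,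
      zero_comp])

include hloc in
theorem shortExact_seqZ (n : ℕ) : (seqZ U M hX n).ShortExact := by
  haveI : Mono (seqZ U M hX n).f := inferInstanceAs (Mono (kernel.ι (dA U M hX n)))
  haveI : Epi (seqZ U M hX n).g := by
    refine (Sheaf.isLocallySurjective_iff_epi' _ _).1 ⟨fun {E} t => ?_⟩
    choose W g hg hs using hloc E
    refine (etTop X).superset_covering (fun V a ha => ?_) (ofArrows_mem_etTop W g fun x => ⟨x, hg x⟩)
    obtain ⟨x, k, rfl⟩ := (Sieve.mem_ofArrows_iff _ _ _).1 ha
    refine Sieve.downward_closed _ ?_ k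
    let s : W x ⟶ U := (hs x).some
    let κ := kernel.ι (dA U M hX (n + 1))
    let t' := ares (Zc U M hX (n + 1)) (g x) t
    let w := κ.hom.app (op (W x)) t'
    obtain ⟨y, hy⟩ := exists_ιA U M hX (isAlt_qcons s (isAlt_ιA U M hX (n + 1) (W x) w))
    refine ⟨y, app_injective_of_mono κ (W x) (app_injective_of_mono (ιA U M hX (n + 1)) (W x) ?_)⟩
    have h0 : (dA U M hX (n + 1)).hom.app (op (W x)) w = 0 :=
      ConcreteCategory.congr_hom (NatTrans.congr_app
        ((sheafToPresheaf _ _).congr_map (kernel.condition (dA U M hX (n + 1)))) (op (W x))) t'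
    have h1 : κ.hom.app (op (W x)) ((seqZ U M hX n).g.hom.app (op (W x)) y) = (dA U M hX n).hom.app (op (W x)) y :=
      ConcreteCategory.congr_hom (NatTrans.congr_app
        ((sheafToPresheaf _ _).congr_map (kernel.lift_ι _ (dA U M hX n) (dA_dA U M hX n))) (op (W x))) y
    refine (congrArg _ h1).trans ((ιA_dA U M hX n (W x) y).trans ?_)
    have h2 := homotopy (F := Fm M) s n ((ιA U M hX (n + 1)).hom.app (op (W x)) w)
    rw [← ιA_dA U M hX (n + 1) (W x) w, h0, map_zero, map_zero, add_zero] at h2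
    exact (congrArg (dq U (Fm M) n (W x)) hy).trans h2
  refine { exact := ?_ }
  refine (seqZ U M hX n).exact_of_f_is_kernel ?_
  refine isKernelOfComp (f := (seqZ U M hX n).g) (kernel.ι (dA U M hX (n + 1))) (dA U M hX n) (kernelIsKernel (dA U M hX n)) _ ?_
  exact kernel.lift_ι _ _ _

/-- The augmentation of sheaves. -/
def augP : Fm M ⟶ Pc U (Fm M) 0 :=
  ⟨{ app := fun E => AddCommGrpCat.ofHom (aug (U := U) (F := Fm M) E.unop)
     naturality := fun E E' g => AddCommGrpCat.hom_ext (AddMonoidHom.ext fun m => by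
      show ares (Fm M) _ (ares (Fm M) g.unop m) = ares (Fm M) ((prodT (T U 0)).map g.unop) (ares (Fm M) _ m)
      rw [← ares_comp]
      exact (congrArg (fun k => ares (Fm M) k m) (prodT_map_fst (T U 0) g.unop).symm).trans
        (ares_comp (Fm M) _ _ m)) }⟩

/-- The augmentation to alternating cochains. -/
def augA : Fm M ⟶ Ac U M hX 0 :=
  kernel.lift _ (augP U M) (by
    rw [Preadditive.comp_sub, Category.comp_id, sub_eq_zero]
    exact Sheaf.hom_ext (NatTrans.ext (funext fun E => AddCommGrpCat.hom_ext (AddMonoidHom.ext fun m =>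
      (eq'_of_isAlt U M hX 0 E.unop (isAlt_zero E.unop _)).symm))))

theorem ιA_augA (E : EtOver X) (m : (Fm M).obj.obj (op E)) :
    (ιA U M hX 0).hom.app (op E) ((augA U M hX).hom.app (op E) m) = aug (U := U) (F := Fm M) E m :=
  have h : augA U M hX ≫ ιA U M hX 0 = augP U M := kernel.lift_ι _ _ _
  ConcreteCategory.congr_hom (NatTrans.congr_app ((sheafToPresheaf _ _).congr_map h) (op E)) m

theorem augA_dA : augA U M hX ≫ dA U M hX 0 = 0 :=
  Sheaf.hom_ext (NatTrans.ext (funext fun E => AddCommGrpCat.hom_ext (AddMonoidHom.ext fun m =>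
    app_injective_of_mono (ιA U M hX 1) E.unop (by
      refine ((ιA_dA U M hX 0 E.unop _).trans ((congrArg _ (ιA_augA U M hX E.unop m)).trans
        (dq_aug E.unop m))).trans (map_zero _).symm))))

include hloc in
theorem isIso_toZ : IsIso (kernel.lift (dA U M hX 0) (augA U M hX) (augA_dA U M hX)) := by
  let l := kernel.lift (dA U M hX 0) (augA U M hX) (augA_dA U M hX)
  have hl : ∀ (E : EtOver X) (m : (Fm M).obj.obj (op E)),
      (ιA U M hX 0).hom.app (op E) ((kernel.ι (dA U M hX 0)).hom.app (op E) (l.hom.app (op E) m)) = aug (U := U) (F := Fm M) E m :=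
    fun E m => (congrArg _ (ConcreteCategory.congr_hom (NatTrans.congr_app
      ((sheafToPresheaf _ _).congr_map (kernel.lift_ι _ (augA U M hX) (augA_dA U M hX))) (op E)) m)).trans
      (ιA_augA U M hX E m)
  haveI : Mono l := by
    refine Functor.mono_of_mono_map (sheafToPresheaf _ _) ?_
    rw [NatTrans.mono_iff_mono_app]
    intro E
    rw [AddCommGrpCat.mono_iff_injective]
    refine (injective_iff_map_eq_zero _).2 fun m hm => ?_
    have h : aug (U := U) E.unop m = 0 := by
      rw [← hl]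
      exact (congrArg _ ((congrArg _ hm).trans (map_zero _))).trans (map_zero _)
    choose W g hg hs using hloc E.unop
    refine aeq_of_cover (Fm M) (c := g) (fun x => ⟨x, hg x⟩) fun x => ?_
    rw [map_zero]
    have e : pl (B := T U 0) (g x) (hs x).some ≫ EtOver.prodFst E.unop (T U 0) = g x := pl_fst _ _
    refine (congrArg (fun k => ares (Fm M) k m) e.symm).trans ((ares_comp (Fm M) _ _ m).trans ?_)
    exact (congrArg _ h).trans (map_zero _)
  haveI : Epi l := by
    refine (Sheaf.isLocallySurjective_iff_epi' _ _).1 ⟨fun {E} t => ?_⟩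
    choose W g hg hs using hloc E
    refine (etTop X).superset_covering (fun V a ha => ?_) (ofArrows_mem_etTop W g fun x => ⟨x, hg x⟩)
    obtain ⟨x, k, rfl⟩ := (Sieve.mem_ofArrows_iff _ _ _).1 ha
    refine Sieve.downward_closed _ ?_ k
    let κ := kernel.ι (dA U M hX 0)
    let w := κ.hom.app (op (W x)) (ares (Zc U M hX 0) (g x) t)
    let v := (ιA U M hX 0).hom.app (op (W x)) w
    refine ⟨ares (Fm M) (pl (B := T U 0) (𝟙 (W x)) (hs x).some) v,
      app_injective_of_mono κ (W x) (app_injective_of_mono (ιA U M hX 0) (W x) ?_)⟩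
    refine (hl (W x) _).trans (aug_of_dq_eq_zero (hs x).some ?_)
    refine (ιA_dA U M hX 0 (W x) w).symm.trans ((congrArg _ ?_).trans (map_zero _))
    exact ConcreteCategory.congr_hom (NatTrans.congr_app
      ((sheafToPresheaf _ _).congr_map (kernel.condition (dA U M hX 0))) (op (W x))) _
  exact isIso_of_mono_of_epi l

omit [S.IsSeparated] [IsAffine U.obj.left.left] in
theorem eq_zero_of_bad {n : ℕ} (hn : bad U n = Set.univ) {E : EtOver X}
    {t : sectModEt M (EtOver.prodObj E (T U n))} (ht : IsAlt U (Fm M) n E t) : t = 0 := by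
  let P := EtOver.prodObj E (T U n)
  let snd : P ⟶ T U n := EtOver.prodSnd E (T U n)
  have hex : ∀ y : P.obj.left.left, ∃ (V : EtOver X) (g : V ⟶ P),
      y ∈ Set.range g.hom.left.left ∧ res M g t = 0 := by
    intro y
    have hy : snd.hom.left.left y ∈ bad U n := by rw [hn]; trivial
    obtain ⟨⟨⟨i, j⟩, hij⟩, v, hv⟩ := Set.mem_iUnion.1 hy
    let k := pl (snd ≫ tπ U n i) (snd ≫ tπ U n j)
    have hk : snd ≫ pair U n i j = k := comp_pair U i j snd
    have hv' : k.hom.left.left y = (diagU U).hom.left.left v := by rw [← hk]; exact hv.symm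
    obtain ⟨p, hp, -⟩ := Scheme.exists_preimage_of_isPullback
      ((EtOver.isPullback k (diagU U)).map (EtOver.toScheme X)) y v hv'
    refine ⟨_, EtOver.pullbackFst k (diagU U), ⟨p, hp⟩, ht.2 _ _ i j hij ?_⟩
    have h := EtOver.pullback_condition k (diagU U)
    have h₁ := congrArg (fun k => k ≫ EtOver.prodFst U U) h
    have h₂ := congrArg (fun k => k ≫ EtOver.prodSnd U U) h
    simp only [k, diagU, Category.assoc, pl_fst, pl_snd] at h₁ h₂
    exact h₁.trans h₂.symm
  choose V g hg hres using hex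
  exact Groth.L09.ModEt.eq_of_cover M (c := g) (fun y => ⟨y, hg y⟩) fun y => (hres y).trans (map_zero _).symm

theorem isZero_Ac {n : ℕ} (hn : bad U n = Set.univ) : IsZero (Ac U M hX n) := by
  rw [IsZero.iff_id_eq_zero]
  exact Sheaf.hom_ext (NatTrans.ext (funext fun E => AddCommGrpCat.hom_ext (AddMonoidHom.ext fun z =>
    app_injective_of_mono (ιA U M hX n) E.unop
      ((eq_zero_of_bad U M hn (isAlt_ιA U M hX n E.unop z)).trans (map_zero _).symm))))

theorem subsingleton_Ac (hM : Cok (Fm M)) (n q : ℕ) : Subsingleton (HEt X (Ac U M hX n) (q + 1)) := by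
  haveI := isAffine_T U hX n
  haveI := subsingleton_hEt_PF (T U n) (fun E hE => @isAffine_prodObj _ _ _ hX E (T U n) hE ‹_›) ‹_›
    (Fm M) hM q
  let r : Pc U (Fm M) n ⟶ Ac U M hX n := kernel.lift _ (eP U M n (wt U hX n))
    (by rw [Preadditive.comp_sub, Category.comp_id, eP_idem, sub_self])
  have hr : ιA U M hX n ≫ r = 𝟙 _ := by
    rw [← cancel_mono (ιA U M hX n), Category.assoc, kernel.lift_ι, Category.id_comp, ιA_eP]
  refine subsingleton_of_forall_eq 0 fun x => ?_
  have h : (x.comp (Ext.mk₀ (ιA U M hX n)) (add_zero _)).comp (Ext.mk₀ r) (add_zero _) = x := by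
    rw [Ext.comp_assoc_of_third_deg_zero, Ext.mk₀_comp_mk₀, hr, Ext.comp_mk₀_id]
  rw [← h, Subsingleton.elim (x.comp (Ext.mk₀ (ιA U M hX n)) (add_zero _)) 0, Ext.zero_comp]

include hX hloc in
/-- Vanishing of cohomology above the number of lifts of a point. -/
theorem subsingleton_hModEt (hM : Cok (Fm M)) {d : ℕ} (hbad : ∀ n, d ≤ n → bad U n = Set.univ)
    (q : ℕ) (hq : d ≤ q) : Subsingleton (HModEt X M q) := by
  have key : ∀ q n, d ≤ n + q → Subsingleton (HEt X (Zc U M hX n) q) := by
    intro q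
    induction q with
    | zero =>
      intro n hn
      have h0 : IsZero (Zc U M hX n) := IsZero.of_mono (kernel.ι (dA U M hX n)) (isZero_Ac U M hX (hbad n hn))
      refine subsingleton_of_forall_eq 0 fun x => Ext.addEquiv₀.injective (h0.eq_of_tgt _ _)
    | succ q ih =>
      intro n hn
      haveI := subsingleton_Ac U M hX hM n q
      haveI := ih (n + 1) (by omega)
      refine subsingleton_of_forall_eq 0 fun x => ?_
      obtain ⟨y, rfl⟩ := Ext.covariant_sequence_exact₁ _ (shortExact_seqZ U M hX hloc n) x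
        (Subsingleton.elim (α := HEt X (Ac U M hX n) (q + 1)) _ _) (n₀ := q) rfl
      rw [Subsingleton.elim (α := HEt X (Zc U M hX (n + 1)) q) y 0, Ext.zero_comp]
  haveI := key q 0 (by omega)
  haveI := isIso_toZ U M hX hloc
  let l := asIso (kernel.lift (dA U M hX 0) (augA U M hX) (augA_dA U M hX))
  refine subsingleton_of_forall_eq 0 fun (x : HEt X (Fm M) q) => ?_
  have h : (x.comp (Ext.mk₀ l.hom) (add_zero _)).comp (Ext.mk₀ l.inv) (add_zero _) = x := by
    rw [Ext.comp_assoc_of_third_deg_zero, Ext.mk₀_comp_mk₀, Iso.hom_inv_id, Ext.comp_mk₀_id]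
  rw [← h, Subsingleton.elim (α := HEt X (Zc U M hX 0) q) (x.comp (Ext.mk₀ l.hom) (add_zero _)) 0, Ext.zero_comp]

end Groth.L09.EtAlt
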